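import Cfsg.Agent.Lib.J2.U33

/-! Matrices over the field with nine elements, coded by natural numbers for fast evaluation. -/

set_option autoImplicit false

namespace Cfsg.Agent.DegGraph

open Matrix Cfsg.Agent.J2

theorem F9_ext {x y : F9} (h1 : x.re = y.re) (h2 : x.im = y.im) : x = y := by
  cases x; cases y; cases h1; cases h2; rfl

/-- Decoding an element. -/
def dE (n : ℕ) : F9 := ⟨(n : ZMod 3), ((n / 3 : ℕ) : ZMod 3)⟩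

/-- Coded addition. -/
def addE (a b : ℕ) : ℕ := (a + b) % 3 + 3 * ((a / 3 + b / 3) % 3)

/-- Coded multiplication. -/
def mulE (a b : ℕ) : ℕ :=
  (a * b + 2 * ((a / 3) * (b / 3))) % 3 + 3 * ((a * (b / 3) + (a / 3) * b) % 3)

/-- Coded negation. -/
def negE (a : ℕ) : ℕ := mulE 2 a

/-- Coded conjugation. -/
def cjE (a : ℕ) : ℕ := a % 3 + 3 * ((2 * (a / 3)) % 3)

theorem dE_mk (r s : ℕ) (hr : r < 3) : dE (r + 3 * s) = ⟨(r : ZMod 3), (s : ZMod 3)⟩ := by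
  have h : (r + 3 * s) / 3 = s := by omega
  unfold dE
  rw [h]
  refine F9_ext ?_ ?_
  · push_cast
    rw [show (3 : ZMod 3) = 0 from rfl, zero_mul, add_zero]
  · rfl

theorem dE_add (a b : ℕ) : dE (addE a b) = dE a + dE b := by
  rw [addE, dE_mk _ _ (Nat.mod_lt _ (by norm_num)), ZMod.natCast_mod, ZMod.natCast_mod]
  push_cast
  rfl

theorem dE_mul (a b : ℕ) : dE (mulE a b) = dE a * dE b := by
  rw [mulE, dE_mk _ _ (Nat.mod_lt _ (by norm_num)), ZMod.natCast_mod, ZMod.natCast_mod]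
  push_cast
  show _ = (⟨_, _⟩ : F9)
  refine F9_ext ?_ ?_
  · simp only [dE]
    rw [show (2 : ZMod 3) = -1 from rfl]
    push_cast
    ring
  · rfl

theorem dE_neg (a : ℕ) : dE (negE a) = -dE a := by
  rw [negE, dE_mul, show dE 2 = -1 by decide +kernel]
  exact neg_one_mul _

theorem dE_cj (a : ℕ) : dE (cjE a) = F9.conj (dE a) := by
  rw [cjE, dE_mk _ _ (Nat.mod_lt _ (by norm_num)), ZMod.natCast_mod, ZMod.natCast_mod]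
  push_cast
  rw [show (2 : ZMod 3) = -1 from rfl, neg_one_mul]
  rfl

theorem dE_inj : ∀ a : ℕ, a < 9 → ∀ b : ℕ, b < 9 → dE a = dE b → a = b := by decide +kernel

theorem dE_surj : ∀ x : F9, ∃ n, n < 9 ∧ dE n = x := by decide +kernel

theorem addE_lt (a b : ℕ) : addE a b < 9 := by unfold addE; omega
theorem mulE_lt (a b : ℕ) : mulE a b < 9 := by unfold mulE; omega

/-- A coded matrix. -/
structure C9 where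
  /-- Entry. -/
  a00 : ℕ
  /-- Entry. -/
  a01 : ℕ
  /-- Entry. -/
  a02 : ℕ
  /-- Entry. -/
  a10 : ℕ
  /-- Entry. -/
  a11 : ℕ
  /-- Entry. -/
  a12 : ℕ
  /-- Entry. -/
  a20 : ℕ
  /-- Entry. -/
  a21 : ℕ
  /-- Entry. -/
  a22 : ℕ
deriving DecidableEq

namespace C9

/-- Decoding a matrix. -/
def dec (A : C9) : Matrix (Fin 3) (Fin 3) F9 :=
  !![dE A.a00, dE A.a01, dE A.a02; dE A.a10, dE A.a11, dE A.a12; dE A.a20, dE A.a21, dE A.a22]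

/-- The inner product of a row and a column. -/
def dot (a b c x y z : ℕ) : ℕ := addE (addE (mulE a x) (mulE b y)) (mulE c z)

/-- Coded product. -/
def mul (A B : C9) : C9 :=
  ⟨dot A.a00 A.a01 A.a02 B.a00 B.a10 B.a20, dot A.a00 A.a01 A.a02 B.a01 B.a11 B.a21,
    dot A.a00 A.a01 A.a02 B.a02 B.a12 B.a22,
    dot A.a10 A.a11 A.a12 B.a00 B.a10 B.a20, dot A.a10 A.a11 A.a12 B.a01 B.a11 B.a21,
    dot A.a10 A.a11 A.a12 B.a02 B.a12 B.a22,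
    dot A.a20 A.a21 A.a22 B.a00 B.a10 B.a20, dot A.a20 A.a21 A.a22 B.a01 B.a11 B.a21,
    dot A.a20 A.a21 A.a22 B.a02 B.a12 B.a22⟩

/-- The coded identity. -/
def one : C9 := ⟨1, 0, 0, 0, 1, 0, 0, 0, 1⟩

/-- The conjugate transpose. -/
def star' (A : C9) : C9 :=
  ⟨cjE A.a00, cjE A.a10, cjE A.a20, cjE A.a01, cjE A.a11, cjE A.a21,
    cjE A.a02, cjE A.a12, cjE A.a22⟩

/-- Entries are codes. -/
def WF (A : C9) : Prop :=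
  A.a00 < 9 ∧ A.a01 < 9 ∧ A.a02 < 9 ∧ A.a10 < 9 ∧ A.a11 < 9 ∧ A.a12 < 9 ∧
    A.a20 < 9 ∧ A.a21 < 9 ∧ A.a22 < 9

theorem dot_lt (a b c x y z : ℕ) : dot a b c x y z < 9 := addE_lt _ _

theorem wf_mul (A B : C9) : (mul A B).WF :=
  ⟨dot_lt .., dot_lt .., dot_lt .., dot_lt .., dot_lt .., dot_lt .., dot_lt .., dot_lt ..,
    dot_lt ..⟩

theorem wf_one : one.WF := by unfold WF one; decide

theorem dec_one : dec one = 1 := by decide +kernel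

theorem dec_mul (A B : C9) : dec (mul A B) = dec A * dec B := by
  ext i j
  fin_cases i <;> fin_cases j <;>
    simp [dec, mul, dot, dE_add, dE_mul, Matrix.mul_apply, Fin.sum_univ_three]

theorem dec_star (A : C9) : dec (star' A) = (dec A)ᵀ.map F9.conj := by
  ext i j
  fin_cases i <;> fin_cases j <;> simp [dec, star', dE_cj]

theorem dec_inj {A B : C9} (hA : A.WF) (hB : B.WF) (h : dec A = dec B) : A = B := by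
  obtain ⟨a0, a1, a2, a3, a4, a5, a6, a7, a8⟩ := A
  obtain ⟨b0, b1, b2, b3, b4, b5, b6, b7, b8⟩ := B
  simp only [WF] at hA hB
  have e : ∀ i j, dec ⟨a0, a1, a2, a3, a4, a5, a6, a7, a8⟩ i j =
      dec ⟨b0, b1, b2, b3, b4, b5, b6, b7, b8⟩ i j := fun i j => by rw [h]
  simp only [mk.injEq]
  exact ⟨dE_inj _ hA.1 _ hB.1 (e 0 0), dE_inj _ hA.2.1 _ hB.2.1 (e 0 1),
    dE_inj _ hA.2.2.1 _ hB.2.2.1 (e 0 2), dE_inj _ hA.2.2.2.1 _ hB.2.2.2.1 (e 1 0),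
    dE_inj _ hA.2.2.2.2.1 _ hB.2.2.2.2.1 (e 1 1),
    dE_inj _ hA.2.2.2.2.2.1 _ hB.2.2.2.2.2.1 (e 1 2),
    dE_inj _ hA.2.2.2.2.2.2.1 _ hB.2.2.2.2.2.2.1 (e 2 0),
    dE_inj _ hA.2.2.2.2.2.2.2.1 _ hB.2.2.2.2.2.2.2.1 (e 2 1),
    dE_inj _ hA.2.2.2.2.2.2.2.2 _ hB.2.2.2.2.2.2.2.2 (e 2 2)⟩

/-- Coded determinant. -/
def det' (A : C9) : ℕ :=
  addE (addE (addE (mulE (mulE A.a00 A.a11) A.a22) (negE (mulE (mulE A.a00 A.a12) A.a21)))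
      (addE (negE (mulE (mulE A.a01 A.a10) A.a22)) (mulE (mulE A.a01 A.a12) A.a20)))
    (addE (mulE (mulE A.a02 A.a10) A.a21) (negE (mulE (mulE A.a02 A.a11) A.a20)))

/-- Coded membership test for SU₃(3). -/
def su (A : C9) : Bool := decide (mul (star' A) A = one) && Nat.beq (det' A) 1

theorem dE_det (A : C9) : dE (det' A) = (dec A).det := by
  simp [det', dE_add, dE_mul, dE_neg, dec, Matrix.det_fin_three]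
  ring

theorem su_iff (A : C9) : su A = true ↔
    ((dec A)ᵀ * (dec A).map F9.conj = 1 ∧ (dec A).det = 1) := by
  have hkey : (dec A)ᵀ * (dec A).map F9.conj = 1 ↔ dec (mul (star' A) A) = 1 := by
    rw [dec_mul, dec_star]
    have hcc : (((dec A)ᵀ).map F9.conj).map F9.conj = (dec A)ᵀ := by
      ext i j; simp [F9.conj_conj]
    constructor <;> intro h
    · have := congrArg (fun M : Matrix (Fin 3) (Fin 3) F9 => M.map F9.conj) h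
      simp only [Matrix.map_mul, Matrix.map_one (F9.conj) (map_zero _) (map_one _)] at this
      convert this using 2
      ext i j; simp [F9.conj_conj]
    · have := congrArg (fun M : Matrix (Fin 3) (Fin 3) F9 => M.map F9.conj) h
      simp only [Matrix.map_mul, Matrix.map_one (F9.conj) (map_zero _) (map_one _), hcc] at this
      exact this
  have h1 : det' A < 9 := addE_lt _ _
  simp only [su, Bool.and_eq_true, decide_eq_true_eq, Nat.beq_eq, hkey, ← dE_det]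
  refine and_congr ⟨fun h => by rw [h, dec_one], fun h =>
    dec_inj (wf_mul _ _) wf_one (h.trans dec_one.symm)⟩ ⟨fun h => ?_, fun h => ?_⟩
  · rw [h]; decide +kernel
  · exact dE_inj _ h1 1 (by norm_num) (h.trans (by decide +kernel))

end C9

/-- Data. -/
def uC : List C9 :=
  [⟨1, 0, 0, 0, 1, 0, 0, 0, 1⟩,
   ⟨1, 0, 0, 0, 4, 4, 0, 5, 7⟩,
   ⟨1, 0, 0, 0, 7, 8, 0, 7, 4⟩,
   ⟨1, 3, 4, 3, 2, 7, 5, 4, 0⟩,
   ⟨1, 3, 4, 3, 5, 2, 5, 6, 6⟩,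
   ⟨1, 3, 4, 3, 8, 3, 5, 2, 3⟩,
   ⟨1, 6, 8, 6, 2, 7, 7, 4, 0⟩,
   ⟨1, 6, 8, 6, 5, 2, 7, 6, 6⟩,
   ⟨1, 6, 8, 6, 8, 3, 7, 2, 3⟩,
   ⟨1, 1, 7, 2, 2, 7, 8, 4, 0⟩,
   ⟨1, 1, 7, 2, 5, 2, 8, 6, 6⟩,
   ⟨1, 1, 7, 2, 8, 3, 8, 2, 3⟩,
   ⟨1, 4, 2, 5, 0, 5, 1, 8, 2⟩,
   ⟨1, 4, 2, 5, 3, 6, 1, 1, 8⟩,
   ⟨1, 4, 2, 5, 6, 1, 1, 3, 5⟩,
   ⟨1, 7, 3, 8, 0, 5, 3, 8, 2⟩,
   ⟨1, 7, 3, 8, 3, 6, 3, 1, 8⟩,
   ⟨1, 7, 3, 8, 6, 1, 3, 3, 5⟩,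
   ⟨1, 2, 5, 1, 2, 7, 4, 4, 0⟩,
   ⟨1, 2, 5, 1, 5, 2, 4, 6, 6⟩,
   ⟨1, 2, 5, 1, 8, 3, 4, 2, 3⟩,
   ⟨1, 5, 6, 4, 0, 5, 6, 8, 2⟩,
   ⟨1, 5, 6, 4, 3, 6, 6, 1, 8⟩,
   ⟨1, 5, 6, 4, 6, 1, 6, 3, 5⟩,
   ⟨1, 8, 1, 7, 0, 5, 2, 8, 2⟩,
   ⟨1, 8, 1, 7, 3, 6, 2, 1, 8⟩,
   ⟨1, 8, 1, 7, 6, 1, 2, 3, 5⟩]

/-- Data. -/
def cC : List C9 :=
  [⟨1, 0, 0, 0, 5, 4, 0, 5, 8⟩,
   ⟨1, 3, 4, 6, 1, 5, 7, 8, 0⟩,
   ⟨1, 6, 8, 3, 1, 5, 5, 8, 0⟩,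
   ⟨1, 1, 7, 1, 1, 5, 4, 8, 0⟩,
   ⟨1, 2, 5, 2, 1, 5, 8, 8, 0⟩,
   ⟨6, 6, 8, 4, 3, 3, 6, 8, 6⟩]

/-- Data. -/
def yPows : List C9 :=
  [⟨1, 0, 0, 0, 1, 0, 0, 0, 1⟩,
   ⟨0, 0, 3, 4, 4, 0, 4, 8, 0⟩,
   ⟨5, 7, 0, 6, 6, 5, 3, 3, 5⟩,
   ⟨2, 2, 8, 8, 6, 1, 3, 4, 2⟩,
   ⟨2, 5, 6, 2, 3, 7, 5, 1, 2⟩,
   ⟨8, 3, 6, 4, 3, 6, 0, 8, 8⟩,
   ⟨0, 7, 7, 0, 7, 5, 6, 0, 0⟩]

/-- Data. -/
def xC : C9 := ⟨3, 0, 0, 0, 0, 3, 0, 1, 0⟩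

/-- Data. -/
def wC : C9 := ⟨3, 0, 0, 0, 0, 1, 0, 3, 0⟩

/-- Data. -/
def yC : C9 := ⟨0, 0, 3, 4, 4, 0, 4, 8, 0⟩

/-- Data. -/
def kiC : C9 := ⟨1, 8, 4, 0, 7, 7, 0, 6, 3⟩

/-- Data. -/
def w5C : C9 := ⟨3, 0, 0, 0, 0, 6, 0, 2, 0⟩

end Cfsg.Agent.DegGraph
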