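import Cfsg.Agent.Lib.Char.Induction
import Cfsg.Agent.Lib.Char.Degree
import Cfsg.Agent.Lib.Char.Integral
import Cfsg.Agent.Lib.DefOne.Order7920
import Mathlib.GroupTheory.SpecificGroups.Cyclic

/-!
Characters of degree 28 and 21 of a simple group of order 6048, from the characters induced
by linear characters of a subgroup of index 28.
-/

set_option autoImplicit false
set_option linter.unusedSectionVars false
set_option linter.style.haveILetI false

namespace Cfsg.Agent.DegGraph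

open Cfsg Cfsg.Agent.Char

open scoped ComplexConjugate

universe u

variable {G : Type u} [Group G]

/-- The data: a group `U` of order 27, an element `x` of order 8 normalising it and an element
`w` normalising `⟨x⟩`. -/
structure BorelData (U : Subgroup G) (x w : G) : Prop where
  cardU : Nat.card U = 27
  normU : ∀ v ∈ U, x * v * x⁻¹ ∈ U
  ordx : orderOf x = 8
  wx : w⁻¹ * x * w = x ^ 5
  inter : ∀ v ∈ U, w⁻¹ * v * w ∈ U → v = 1
  real : ∀ v ∈ U, IsConj v v⁻¹

theorem odd_pair : ∀ d : ℕ, d < 28 → d % 2 = 1 → d ∣ 6048 → (28 - d) ∣ 6048 →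
    d = 1 ∨ d = 27 ∨ d = 21 ∨ d = 7 := by
  intro d hd h1 h2 h3
  interval_cases d <;> first | omega | (exfalso; revert h2 h3; norm_num)

namespace BorelData

variable {U : Subgroup G} {x w : G} (D : BorelData U x w)

include D

theorem x_pow_eight : x ^ 8 = 1 := D.ordx ▸ pow_orderOf_eq_one x

theorem conj_pow : ∀ (i : ℕ), ∀ v ∈ U, x ^ i * v * (x ^ i)⁻¹ ∈ U := by
  intro i
  induction i with
  | zero => intro v hv; simpa using hv
  | succ i ih =>
    intro v hv
    rw [show x ^ (i + 1) * v * (x ^ (i + 1))⁻¹ = x ^ i * (x * v * x⁻¹) * (x ^ i)⁻¹ by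
      rw [pow_succ]; group]
    exact ih _ (D.normU v hv)

/-- The subgroup of index 28. -/
def B : Subgroup G where
  carrier := {g | ∃ v ∈ U, ∃ i : ℕ, g = v * x ^ i}
  one_mem' := ⟨1, one_mem U, 0, by simp⟩
  mul_mem' := by
    rintro _ _ ⟨v, hv, i, rfl⟩ ⟨v', hv', j, rfl⟩
    exact ⟨v * (x ^ i * v' * (x ^ i)⁻¹), mul_mem hv (D.conj_pow i v' hv'), i + j, by
      rw [pow_add]; group⟩
  inv_mem' := by
    rintro _ ⟨v, hv, i, rfl⟩
    refine ⟨x ^ (7 * i) * v⁻¹ * (x ^ (7 * i))⁻¹, D.conj_pow _ _ (inv_mem hv), 7 * i, ?_⟩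
    have h : x ^ (7 * i) = (x ^ i)⁻¹ := by
      refine eq_inv_of_mul_eq_one_left ?_
      rw [← pow_add, show 7 * i + i = 8 * i by ring, pow_mul, D.x_pow_eight, one_pow]
    rw [h]; group

theorem mem_B {g : G} : g ∈ D.B ↔ ∃ v ∈ U, ∃ i : ℕ, g = v * x ^ i := Iff.rfl

theorem x_mem : x ∈ D.B := ⟨1, one_mem U, 1, by simp⟩

theorem le_B : U ≤ D.B := fun v hv => ⟨v, hv, 0, by simp⟩

theorem conj_mem {b v : G} (hb : b ∈ D.B) (hv : v ∈ U) : b * v * b⁻¹ ∈ U := by
  obtain ⟨v', hv', i, rfl⟩ := hb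
  rw [show v' * x ^ i * v * (v' * x ^ i)⁻¹ = v' * (x ^ i * v * (x ^ i)⁻¹) * v'⁻¹ by group]
  exact mul_mem (mul_mem hv' (D.conj_pow i v hv)) (inv_mem hv')

theorem pow_mem_imp {i : ℕ} (h : x ^ i ∈ U) : x ^ i = 1 := by
  have h1 : orderOf (x ^ i) ∣ 27 := D.cardU ▸ Subgroup.orderOf_dvd_natCard U h
  have h2 : orderOf (x ^ i) ∣ 8 := orderOf_dvd_of_pow_eq_one (by
    rw [← pow_mul, mul_comm, pow_mul, D.x_pow_eight, one_pow])
  exact orderOf_eq_one_iff.1 (Nat.dvd_one.1 (Nat.dvd_gcd h1 h2))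

theorem pow_fin_injective : Function.Injective (fun i : Fin 8 => x ^ (i : ℕ)) := fun i j h => by
  have h' := pow_inj_mod.1 h
  rw [D.ordx, Nat.mod_eq_of_lt i.2, Nat.mod_eq_of_lt j.2] at h'
  exact Fin.ext h'

theorem pow_mod (i : ℕ) : x ^ i = x ^ (i % 8) := by
  rw [← D.ordx, pow_mod_orderOf]

/-- Every element of `B` is uniquely the product of an element of `U` and a power of `x`. -/
theorem bij : Function.Bijective
    (fun p : U × Fin 8 => (⟨p.1 * x ^ (p.2 : ℕ), p.1, p.1.2, p.2, rfl⟩ : D.B)) := by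
  constructor
  · rintro ⟨v, i⟩ ⟨v', j⟩ h
    have h0 : (v : G) * x ^ (i : ℕ) = v' * x ^ (j : ℕ) := congrArg Subtype.val h
    have h1 : ((v' : G)⁻¹ * v) = x ^ (j : ℕ) * (x ^ (i : ℕ))⁻¹ := by
      rw [eq_mul_inv_iff_mul_eq, mul_assoc, h0, inv_mul_cancel_left]
    have h2 : x ^ (j : ℕ) * (x ^ (i : ℕ))⁻¹ = x ^ ((j : ℕ) + 7 * (i : ℕ)) := by
      rw [mul_inv_eq_iff_eq_mul, ← pow_add, add_assoc, show 7 * (i : ℕ) + i = 8 * i by ring,
        pow_add, pow_mul, D.x_pow_eight, one_pow, mul_one]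
    have h3 := D.pow_mem_imp (i := (j : ℕ) + 7 * (i : ℕ))
      (by rw [← h2, ← h1]; exact mul_mem (inv_mem v'.2) v.2)
    rw [← h2] at h3
    have hij : i = j := D.pow_fin_injective (mul_inv_eq_one.1 h3).symm
    subst hij
    exact Prod.ext (Subtype.ext (mul_right_cancel h0)) rfl
  · rintro ⟨g, v, hv, i, rfl⟩
    exact ⟨(⟨v, hv⟩, ⟨i % 8, Nat.mod_lt _ (by norm_num)⟩), Subtype.ext (by
      show v * x ^ (i % 8) = v * x ^ i
      rw [← D.pow_mod])⟩

theorem card_B : Nat.card D.B = 216 := by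
  rw [← Nat.card_congr (Equiv.ofBijective _ D.bij), Nat.card_prod, D.cardU, Nat.card_fin]

theorem nontrivial_U : ∃ v ∈ U, v ≠ (1 : G) := by
  by_contra h
  push Not at h
  have : U = ⊥ := (Subgroup.eq_bot_iff_forall _).2 h
  have h2 := D.cardU
  rw [this, Subgroup.card_bot] at h2
  norm_num at h2

theorem mem_U_of_pow {b : G} (hb : b ∈ D.B) (h : b ^ 27 = 1) : b ∈ U := by
  haveI : Finite U := Nat.finite_of_card_ne_zero (by rw [D.cardU]; norm_num)
  haveI : (U.subgroupOf D.B).Normal := ⟨fun v hv c => D.conj_mem c.2 hv⟩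
  have hord : orderOf (QuotientGroup.mk' (U.subgroupOf D.B) ⟨b, hb⟩) ∣ 27 := by
    refine orderOf_dvd_of_pow_eq_one ?_
    rw [← map_pow, show (⟨b, hb⟩ : D.B) ^ 27 = 1 from Subtype.ext h, map_one]
  have hcard : Nat.card (D.B ⧸ U.subgroupOf D.B) = 8 := by
    have h1 := (U.subgroupOf D.B).index_mul_card
    rw [Nat.card_congr (Subgroup.subgroupOfEquivOfLe D.le_B).toEquiv, D.cardU, D.card_B] at h1
    rw [← Subgroup.index_eq_card]
    omega
  haveI : Finite D.B := Nat.finite_of_card_ne_zero (by rw [D.card_B]; norm_num)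
  have h8 : orderOf (QuotientGroup.mk' (U.subgroupOf D.B) ⟨b, hb⟩) ∣ 8 :=
    hcard ▸ orderOf_dvd_natCard _
  have h1 := orderOf_eq_one_iff.1 (Nat.dvd_one.1 (Nat.dvd_gcd hord h8))
  rw [QuotientGroup.mk'_apply, QuotientGroup.eq_one_iff] at h1
  exact h1

/-- Trivial intersection with the conjugate of `B`. -/
theorem inter_B {v : G} (hv : v ∈ U) (h : w⁻¹ * v * w ∈ D.B) : v = 1 := by
  refine D.inter v hv (D.mem_U_of_pow h ?_)
  have : v ^ 27 = 1 := by
    have h' : orderOf v ∣ 27 := D.cardU ▸ Subgroup.orderOf_dvd_natCard U hv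
    exact orderOf_dvd_iff_pow_eq_one.1 h'
  have e : w⁻¹ * v * w = MulAut.conj w⁻¹ v := by simp
  rw [e, ← map_pow, this, map_one]

theorem w_not_mem : w ∉ D.B := fun hw => by
  obtain ⟨v, hv, hv1⟩ := D.nontrivial_U
  exact hv1 (D.inter_B hv (mul_mem (mul_mem (inv_mem hw) (D.le_B hv)) hw))

theorem w_conj_pow (i : ℕ) : w⁻¹ * x ^ i * w = x ^ (5 * i) := by
  have e : ∀ g : G, w⁻¹ * g * w = MulAut.conj w⁻¹ g := fun g => by simp
  rw [e, map_pow, ← e, D.wx, ← pow_mul]

/-- A linear character of `B` with any eighth root of unity as value at `x`. -/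
theorem exists_linear {z : ℂˣ} (hz : z ^ 8 = 1) :
    ∃ L : D.B →* ℂˣ, L ⟨x, D.x_mem⟩ = z ∧ ∀ v (hv : v ∈ U), L ⟨v, D.le_B hv⟩ = 1 := by
  haveI : (U.subgroupOf D.B).Normal := ⟨fun v hv c => D.conj_mem c.2 hv⟩
  set q := QuotientGroup.mk' (U.subgroupOf D.B) with hq
  have hgen : ∀ c : D.B ⧸ U.subgroupOf D.B, c ∈ Subgroup.zpowers (q ⟨x, D.x_mem⟩) := by
    intro c
    obtain ⟨⟨g, v, hv, i, rfl⟩, rfl⟩ := QuotientGroup.mk'_surjective _ c
    refine ⟨(i : ℤ), ?_⟩
    show q ⟨x, D.x_mem⟩ ^ (i : ℤ) = q _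
    rw [zpow_natCast, ← map_pow]
    have hv1 : q ⟨v, D.le_B hv⟩ = 1 := (QuotientGroup.eq_one_iff _).2 hv
    rw [show (⟨v * x ^ i, _⟩ : D.B) = ⟨v, D.le_B hv⟩ * (⟨x, D.x_mem⟩ : D.B) ^ i from
      Subtype.ext rfl, map_mul, hv1, one_mul]
  have ho : orderOf z ∣ orderOf (q ⟨x, D.x_mem⟩) := by
    have h8 : orderOf (q ⟨x, D.x_mem⟩) = 8 := by
      refine Nat.dvd_antisymm (orderOf_dvd_of_pow_eq_one ?_) ?_
      · rw [← map_pow, show (⟨x, D.x_mem⟩ : D.B) ^ 8 = 1 from Subtype.ext D.x_pow_eight, map_one]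
      · have h1 : q ⟨x, D.x_mem⟩ ^ orderOf (q ⟨x, D.x_mem⟩) = 1 := pow_orderOf_eq_one _
        rw [← map_pow, hq, QuotientGroup.mk'_apply, QuotientGroup.eq_one_iff] at h1
        have h2 := orderOf_dvd_of_pow_eq_one (D.pow_mem_imp
          (i := orderOf (q ⟨x, D.x_mem⟩)) h1)
        rwa [D.ordx] at h2
    rw [h8]
    exact orderOf_dvd_of_pow_eq_one hz
  refine ⟨(monoidHomOfForallMemZpowers hgen ho).comp q, ?_, fun v hv => ?_⟩
  · exact monoidHomOfForallMemZpowers_apply_gen hgen ho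
  · show monoidHomOfForallMemZpowers hgen ho (q ⟨v, D.le_B hv⟩) = 1
    rw [show q ⟨v, D.le_B hv⟩ = 1 from (QuotientGroup.eq_one_iff _).2 hv, map_one]

section Fin

variable [Fintype G] (hG : Nat.card G = 6048)

include hG

theorem index_B : D.B.index = 28 := by
  have h := D.B.index_mul_card
  rw [D.card_B, hG] at h
  omega

/-- The two double cosets. -/
theorem sum_split (f : G → ℂ) [Fintype D.B] [Fintype U] :
    ∑ g : G, f g = ∑ b : D.B, f b + ∑ v : U, ∑ b : D.B, f ((v : G) * w * b) := by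
  classical
  rw [← Fintype.sum_prod_type' (f := fun (v : U) (b : D.B) => f ((v : G) * w * b))]
  let Φ : D.B ⊕ (U × D.B) → G := Sum.elim (fun b => (b : G)) (fun p => (p.1 : G) * w * p.2)
  have hinj : Function.Injective Φ := by
    have hcross : ∀ (b : D.B) (v : U) (c : D.B), (b : G) ≠ (v : G) * w * c := fun b v c e => by
      refine D.w_not_mem ?_
      have : w = (v : G)⁻¹ * b * (c : G)⁻¹ := by rw [e]; group
      exact (congrArg (fun g => g ∈ D.B) this).mpr
        (mul_mem (mul_mem (inv_mem (D.le_B v.2)) b.2) (inv_mem c.2))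
    rintro (b | ⟨v, b⟩) (b' | ⟨v', b'⟩) h <;> simp only [Φ, Sum.elim_inl, Sum.elim_inr] at h
    · exact congrArg Sum.inl (Subtype.ext h)
    · exact absurd h (hcross _ _ _)
    · exact absurd h.symm (hcross _ _ _)
    · have h1 : w⁻¹ * ((v' : G)⁻¹ * v) * w = b' * (b : G)⁻¹ := by
        calc w⁻¹ * ((v' : G)⁻¹ * v) * w = w⁻¹ * (v' : G)⁻¹ * ((v : G) * w * b) * (b : G)⁻¹ := by group
          _ = b' * (b : G)⁻¹ := by rw [h]; group
      have h2 := D.inter_B (mul_mem (inv_mem v'.2) v.2)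
        (h1 ▸ mul_mem b'.2 (inv_mem b.2))
      have hv : v = v' := Subtype.ext (inv_mul_eq_one.1 h2).symm
      subst hv
      exact congrArg Sum.inr (Prod.ext rfl (Subtype.ext (mul_left_cancel h)))
  have hbij : Function.Bijective Φ := by
    refine (Nat.bijective_iff_injective_and_card Φ).2 ⟨hinj, ?_⟩
    rw [Nat.card_sum, Nat.card_prod, D.cardU, D.card_B, hG]
  rw [← Fintype.sum_bijective Φ hbij (fun s => f (Φ s)) f fun _ => rfl, Fintype.sum_sum_type]
  rfl

omit hG in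
theorem ext_conj (L : D.B →* ℂˣ) {c : G} (hc : c ∈ D.B) (y : G) :
    Cfsg.extendByZero D.B (fun b => ((L b : ℂˣ) : ℂ)) (c⁻¹ * y * c) =
      Cfsg.extendByZero D.B (fun b => ((L b : ℂˣ) : ℂ)) y := by
  by_cases hy : y ∈ D.B
  · rw [extendByZero_mem _ _ hy,
      extendByZero_mem _ _ (mul_mem (mul_mem (inv_mem hc) hy) hc)]
    congr 1
    rw [show (⟨c⁻¹ * y * c, _⟩ : D.B) = (⟨c, hc⟩ : D.B)⁻¹ * ⟨y, hy⟩ * ⟨c, hc⟩ from rfl, map_mul,
      map_mul, map_inv, mul_right_comm, inv_mul_cancel, one_mul]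
  · rw [extendByZero_not_mem _ _ hy, extendByZero_not_mem _ _ fun h => hy (by
      have := mul_mem (mul_mem hc h) (inv_mem hc)
      simpa [mul_assoc] using this)]

/-- The induced character on an element of `B`. -/
theorem ind_apply (L : D.B →* ℂˣ) [Fintype U] (b : D.B) :
    Cfsg.indFun D.B (fun b => ((L b : ℂˣ) : ℂ)) b = L b +
      ∑ v : U, Cfsg.extendByZero D.B (fun b => ((L b : ℂˣ) : ℂ))
        (w⁻¹ * ((v : G)⁻¹ * b * v) * w) := by
  classical
  haveI : Fintype D.B := Fintype.ofFinite _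
  have h216 : (Nat.card D.B : ℂ) ≠ 0 := Nat.cast_ne_zero.2 Nat.card_pos.ne'
  rw [indFun_apply, D.sum_split hG, mul_add]
  congr 1
  · rw [Finset.sum_congr rfl fun c _ => show _ = ((L b : ℂˣ) : ℂ) by
      rw [D.ext_conj L c.2, extendByZero_coe], Finset.sum_const, Finset.card_univ, nsmul_eq_mul,
      ← Nat.card_eq_fintype_card, inv_mul_cancel_left₀ h216]
  · rw [Finset.mul_sum]
    refine Finset.sum_congr rfl fun v _ => ?_
    rw [Finset.sum_congr rfl fun c _ => show _ = Cfsg.extendByZero D.B (fun b => ((L b : ℂˣ) : ℂ))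
        (w⁻¹ * ((v : G)⁻¹ * b * v) * w) by
      rw [show ((v : G) * w * c)⁻¹ * b * ((v : G) * w * c) =
        (c : G)⁻¹ * (w⁻¹ * ((v : G)⁻¹ * b * v) * w) * c by group, D.ext_conj L c.2],
      Finset.sum_const, Finset.card_univ, nsmul_eq_mul, ← Nat.card_eq_fintype_card,
      inv_mul_cancel_left₀ h216]

omit hG in
/-- A sum over `B` against the transported character lives on the powers of `x`. -/
theorem sum_transported [Fintype D.B] (L : D.B →* ℂˣ) :
    ∑ b : D.B, ((L b : ℂˣ) : ℂ) *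
      conj (Cfsg.extendByZero D.B (fun b => ((L b : ℂˣ) : ℂ)) (w⁻¹ * b * w)) =
    ∑ i : Fin 8, ((L ⟨x, D.x_mem⟩ : ℂˣ) : ℂ) ^ (i : ℕ) *
      conj (((L ⟨x, D.x_mem⟩ : ℂˣ) : ℂ) ^ (5 * (i : ℕ))) := by
  refine (Fintype.sum_of_injective (fun i : Fin 8 => (⟨x, D.x_mem⟩ : D.B) ^ (i : ℕ))
    (fun i j h => D.pow_fin_injective (by
      have := congrArg Subtype.val h
      simpa using this)) _ _ ?_ ?_).symm
  · intro b hb
    obtain ⟨⟨v, i⟩, rfl⟩ := D.bij.2 b
    rw [extendByZero_not_mem, map_zero, mul_zero]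
    intro h
    refine hb ⟨i, Subtype.ext ?_⟩
    have h5 : x ^ (5 * (i : ℕ)) ∈ D.B := pow_mem D.x_mem _
    have e : w⁻¹ * ((v : G) * x ^ (i : ℕ)) * w = (w⁻¹ * v * w) * x ^ (5 * (i : ℕ)) := by
      rw [← D.w_conj_pow]; group
    have h' : w⁻¹ * (v : G) * w ∈ D.B := by
      have hh := mul_mem h (inv_mem h5)
      simp only [e, mul_inv_cancel_right] at hh
      exact hh
    simp [D.inter_B v.2 h']
  · intro i
    have e : w⁻¹ * ((((⟨x, D.x_mem⟩ : D.B) ^ (i : ℕ) : D.B)) : G) * w =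
        (((⟨x, D.x_mem⟩ : D.B) ^ (5 * (i : ℕ)) : D.B) : G) := by
      push_cast
      exact D.w_conj_pow _
    simp only [e, extendByZero_coe, map_pow, Units.val_pow_eq_pow_val]

omit hG in
theorem conj_linear (L : D.B →* ℂˣ) (b : D.B) : ((L b : ℂˣ) : ℂ) * conj ((L b : ℂˣ) : ℂ) = 1 := by
  haveI : Finite D.B := inferInstance
  rw [Complex.mul_conj']
  rw [norm_eq_one_of_pow (orderOf_pos b).ne' (by
    rw [← Units.val_pow_eq_pow_val, ← map_pow, pow_orderOf_eq_one, map_one, Units.val_one])]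
  norm_num

/-- The norm of an induced linear character. -/
theorem norm_ind (L : D.B →* ℂˣ) :
    Cfsg.classInner (Cfsg.indFun D.B fun b => ((L b : ℂˣ) : ℂ))
      (Cfsg.indFun D.B fun b => ((L b : ℂˣ) : ℂ)) = 1 + 8⁻¹ *
    ∑ i : Fin 8, ((L ⟨x, D.x_mem⟩ : ℂˣ) : ℂ) ^ (i : ℕ) *
      conj (((L ⟨x, D.x_mem⟩ : ℂˣ) : ℂ) ^ (5 * (i : ℕ))) := by
  classical
  haveI : Fintype D.B := Fintype.ofFinite _
  haveI : Fintype U := Fintype.ofFinite _
  rw [classInner_indFun_left D.B _ (isClassFunction_indFun _ _)]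
  simp only [Cfsg.classInner, D.ind_apply hG L, map_add, map_sum, mul_add, Finset.sum_add_distrib,
    D.card_B]
  have h1 : ∑ b : D.B, ((L b : ℂˣ) : ℂ) * conj ((L b : ℂˣ) : ℂ) = 216 := by
    rw [Finset.sum_congr rfl fun b _ => D.conj_linear L b, Finset.sum_const, Finset.card_univ,
      ← Nat.card_eq_fintype_card, D.card_B]
    norm_num
  rw [h1]
  simp only [Finset.mul_sum]
  rw [Finset.sum_comm]
  have h2 : ∀ v : U, ∑ b : D.B, ((L b : ℂˣ) : ℂ) *
      conj (Cfsg.extendByZero D.B (fun b => ((L b : ℂˣ) : ℂ)) (w⁻¹ * ((v : G)⁻¹ * b * v) * w)) =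
      ∑ b : D.B, ((L b : ℂˣ) : ℂ) *
      conj (Cfsg.extendByZero D.B (fun b => ((L b : ℂˣ) : ℂ)) (w⁻¹ * b * w)) := by
    intro v
    refine Fintype.sum_equiv (MulAut.conj (⟨v, D.le_B v.2⟩ : D.B)⁻¹).toEquiv _ _ fun b => ?_
    simp only [MulEquiv.toEquiv_eq_coe, MulEquiv.coe_toEquiv, MulAut.conj_apply, inv_inv]
    simp only [map_mul, map_inv, Subgroup.coe_mul, Subgroup.coe_inv]
    rw [mul_right_comm (L _)⁻¹, inv_mul_cancel, one_mul]
  have h3 : ∑ v : U, ∑ b : D.B, ((L b : ℂˣ) : ℂ) *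
      conj (Cfsg.extendByZero D.B (fun b => ((L b : ℂˣ) : ℂ)) (w⁻¹ * ((v : G)⁻¹ * b * v) * w)) =
      27 * ∑ b : D.B, ((L b : ℂˣ) : ℂ) *
        conj (Cfsg.extendByZero D.B (fun b => ((L b : ℂˣ) : ℂ)) (w⁻¹ * b * w)) := by
    rw [Finset.sum_congr rfl fun v _ => h2 v, Finset.sum_const, Finset.card_univ,
      ← Nat.card_eq_fintype_card, D.cardU, nsmul_eq_mul]
    norm_num
  simp only [← Finset.mul_sum]
  rw [h3, D.sum_transported]
  norm_num
  ring

theorem ind_one (L : D.B →* ℂˣ) :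
    Cfsg.indFun D.B (fun b => ((L b : ℂˣ) : ℂ)) 1 = 28 := by
  rw [indFun_one_apply, D.index_B hG, map_one, Units.val_one, mul_one]
  norm_num

theorem exists_deg_28 : ∃ χ : IrrCharacter G, charDegree (χ : G → ℂ) = 28 := by
  obtain ⟨ζ, hζ⟩ : ∃ ζ : ℂ, IsPrimitiveRoot ζ 8 := ⟨_, Complex.isPrimitiveRoot_exp 8 (by norm_num)⟩
  obtain ⟨L, hL, -⟩ := D.exists_linear (z := (hζ.isUnit (by norm_num)).unit)
    (Units.ext (by rw [Units.val_pow_eq_pow_val, IsUnit.unit_spec, hζ.pow_eq_one, Units.val_one]))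
  have h1 := D.norm_ind hG L
  rw [hL, IsUnit.unit_spec] at h1
  have h4 : ζ ^ 4 = -1 := IsPrimitiveRoot.eq_neg_one_of_two_right
    (hζ.pow (by norm_num) (show 8 = 4 * 2 by norm_num))
  have hterm : ∀ i : ℕ, ζ ^ i * conj (ζ ^ (5 * i)) = (-1 : ℂ) ^ i := by
    intro i
    have hc : conj ζ = ζ ^ 7 := by
      refine mul_left_cancel₀ (hζ.ne_zero (by norm_num)) ?_
      rw [Complex.mul_conj', norm_eq_one_of_pow (by norm_num) hζ.pow_eq_one, ← pow_succ',
        hζ.pow_eq_one]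
      norm_num
    rw [map_pow, hc, ← pow_mul, ← pow_add, show i + 7 * (5 * i) = 8 * (4 * i) + 4 * i by ring,
      pow_add, pow_mul, hζ.pow_eq_one, one_pow, one_mul, pow_mul, h4]
  simp only [hterm] at h1
  norm_num [Fin.sum_univ_eight] at h1
  refine ⟨⟨_, IsCharacter.isIrr_of_norm_one
    (isCharacter_indFun D.B (IsIrrCharacter.isCharacter (isIrrCharacter_linear L))) h1⟩, ?_⟩
  have h2 := D.ind_one hG L
  simp [Cfsg.charDegree, h2]

/-- A sum over `U` of a real-valued character is congruent to its degree modulo 2. -/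
theorem odd_degree (χ : IrrCharacter G) [Fintype U]
    (h : ∑ v : U, (χ : G → ℂ) v = 27) : charDegree (χ : G → ℂ) % 2 = 1 := by
  classical
  have hcf := IsCharacter.isClassFunction (IsIrrCharacter.isCharacter χ.2)
  set o := Fintype.equivFin U with ho
  have hne : ∀ v : U, v ≠ 1 → v⁻¹ ≠ v := by
    intro v hv h0
    refine hv ?_
    have h1 : orderOf v ∣ 27 := D.cardU ▸ orderOf_dvd_natCard v
    have h2 : orderOf v ∣ 2 := orderOf_dvd_of_pow_eq_one (by
      rw [pow_two]; conv_lhs => arg 1; rw [← h0]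
      exact inv_mul_cancel v)
    exact orderOf_eq_one_iff.1 (Nat.dvd_one.1 (Nat.dvd_gcd h1 h2))
  have hval : ∀ v : U, (χ : G → ℂ) (v⁻¹ : U) = (χ : G → ℂ) v := by
    intro v
    obtain ⟨g, hg⟩ := isConj_iff.1 (D.real v v.2)
    rw [Subgroup.coe_inv, ← hg]
    exact hcf v g
  set A : Finset U := Finset.univ.filter fun v => o v < o v⁻¹ with hA
  set A' : Finset U := Finset.univ.filter fun v => o v⁻¹ < o v with hA'
  have hsum : ∑ v ∈ A', (χ : G → ℂ) v = ∑ v ∈ A, (χ : G → ℂ) v := by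
    refine Finset.sum_bij' (fun v _ => v⁻¹) (fun v _ => v⁻¹) ?_ ?_ ?_ ?_ ?_
    · intro v hv; simp only [hA, hA', Finset.mem_filter, Finset.mem_univ, true_and] at hv ⊢; simpa using hv
    · intro v hv; simp only [hA, hA', Finset.mem_filter, Finset.mem_univ, true_and] at hv ⊢; simpa using hv
    · intro v _; exact inv_inv v
    · intro v _; exact inv_inv v
    · intro v _; exact (hval v).symm
  have hsplit : ∑ v : U, (χ : G → ℂ) v =
      (χ : G → ℂ) 1 + (∑ v ∈ A, (χ : G → ℂ) v + ∑ v ∈ A', (χ : G → ℂ) v) := by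
    rw [← Finset.sum_union (Finset.disjoint_filter.2 fun v _ h1 h2 => absurd h1 (not_lt.2 h2.le))]
    rw [← Finset.add_sum_erase _ _ (Finset.mem_univ (1 : U)), OneMemClass.coe_one]
    congr 1
    refine Finset.sum_congr (Finset.ext fun v => ?_) fun _ _ => rfl
    simp only [hA, hA', Finset.mem_erase, Finset.mem_univ, and_true, Finset.mem_union,
      Finset.mem_filter, true_and]
    constructor
    · exact fun hv => lt_or_gt_of_ne fun e => hne v hv (o.injective e).symm
    · rintro (hv | hv) rfl <;> simp at hv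
  rw [h, hsum, Cfsg.Agent.CharX.irr_deg] at hsplit
  have hint : IsIntegral ℤ (((27 - (charDegree (χ : G → ℂ) : ℚ)) / 2 : ℚ) : ℂ) := by
    have : (((27 - (charDegree (χ : G → ℂ) : ℚ)) / 2 : ℚ) : ℂ) = ∑ v ∈ A, (χ : G → ℂ) v := by
      push_cast
      linear_combination hsplit / 2
    rw [this]
    exact IsIntegral.sum _ fun v _ => IsCharacter.isIntegral (IsIrrCharacter.isCharacter χ.2) _
  obtain ⟨n, hn⟩ := exists_int_of_isIntegral hint
  have : (27 : ℤ) - charDegree (χ : G → ℂ) = 2 * n := by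
    have : (27 : ℚ) - charDegree (χ : G → ℂ) = 2 * n := by linarith
    exact_mod_cast this
  omega

/-- The sum over `U` of an induced character trivial on `U`. -/
theorem sum_ind (L : D.B →* ℂˣ) (hLU : ∀ v (hv : v ∈ U), L ⟨v, D.le_B hv⟩ = 1) [Fintype U] :
    ∑ v : U, Cfsg.indFun D.B (fun b => ((L b : ℂˣ) : ℂ)) (v : G) = 54 := by
  classical
  have key : ∀ v : U, Cfsg.indFun D.B (fun b => ((L b : ℂˣ) : ℂ)) (v : G) =
      1 + if v = 1 then 27 else 0 := by
    intro v
    have h := D.ind_apply hG L ⟨v, D.le_B v.2⟩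
    simp only at h
    rw [h, hLU v v.2, Units.val_one]
    congr 1
    split_ifs with hv
    · subst hv
      rw [Finset.sum_congr rfl fun v' _ => show _ = (1 : ℂ) by
        rw [OneMemClass.coe_one, mul_one, inv_mul_cancel, mul_one, inv_mul_cancel,
          extendByZero_one, map_one, Units.val_one],
        Finset.sum_const, Finset.card_univ, ← Nat.card_eq_fintype_card, D.cardU]
      norm_num
    · refine Finset.sum_eq_zero fun v' _ => extendByZero_not_mem _ _ fun hm => hv ?_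
      have h1 := D.inter_B (mul_mem (mul_mem (inv_mem v'.2) v.2) v'.2) hm
      refine Subtype.ext ?_
      have h2 := congrArg (fun g => (v' : G) * g * (v' : G)⁻¹) h1
      simpa [mul_assoc] using h2
  rw [Finset.sum_congr rfl fun v _ => key v, Finset.sum_add_distrib, Finset.sum_const,
    Finset.card_univ, ← Nat.card_eq_fintype_card, D.cardU, Finset.sum_ite_eq']
  norm_num

theorem exists_deg_21 [IsSimpleGroup G] :
    ∃ χ : IrrCharacter G, charDegree (χ : G → ℂ) = 21 := by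
  classical
  haveI : Fintype D.B := Fintype.ofFinite _
  haveI : Fintype U := Fintype.ofFinite _
  obtain ⟨L, hL, hLU⟩ := D.exists_linear (z := (-1 : ℂˣ)) (by norm_num)
  have hLc : IsCharacter D.B (fun b => ((L b : ℂˣ) : ℂ)) :=
    IsIrrCharacter.isCharacter (isIrrCharacter_linear L)
  set Λ := Cfsg.indFun D.B (fun b => ((L b : ℂˣ) : ℂ)) with hΛ
  have h1 := D.norm_ind hG L
  rw [hL] at h1
  have hterm : ∀ i : ℕ, ((-1 : ℂˣ) : ℂ) ^ i * conj (((-1 : ℂˣ) : ℂ) ^ (5 * i)) = 1 := by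
    intro i
    rw [Units.val_neg, Units.val_one, map_pow, map_neg, map_one, ← pow_add,
      show i + 5 * i = 2 * (3 * i) by ring, pow_mul, neg_one_sq, one_pow]
  simp only [hterm] at h1
  rw [← hΛ] at h1
  norm_num at h1
  obtain ⟨m, hm⟩ := IsCharacter.exists_decomp (isCharacter_indFun D.B hLc)
  rw [← hΛ] at hm
  have hsq : ∑ ψ, m ψ * m ψ = 2 := by
    have h2 := h1
    rw [hm, classInner_combination₂] at h2
    simp only [map_natCast] at h2
    exact_mod_cast h2
  have hle : ∀ ψ, m ψ ≤ 1 := fun ψ => by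
    have := Finset.single_le_sum (f := fun ψ => m ψ * m ψ) (fun _ _ => Nat.zero_le _)
      (Finset.mem_univ ψ)
    by_contra hc
    have : 2 * 2 ≤ m ψ * m ψ := Nat.mul_le_mul (by omega) (by omega)
    omega
  set T := Finset.univ.filter fun ψ => m ψ = 1 with hTdef
  have hT : T.card = 2 := by
    rw [← hsq, Finset.card_filter]
    refine Finset.sum_congr rfl fun ψ _ => ?_
    have := hle ψ
    split_ifs with h0
    · rw [h0]
    · rw [show m ψ = 0 by omega]
  obtain ⟨a, b, hab, hT⟩ := Finset.card_eq_two.1 hT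
  have hΛab : Λ = (a : G → ℂ) + (b : G → ℂ) := by
    rw [hm, ← Finset.sum_filter_add_sum_filter_not Finset.univ (fun ψ => m ψ = 1), ← hTdef, hT,
      Finset.sum_pair hab]
    rw [Finset.sum_eq_zero (s := Finset.filter _ _) fun ψ hψ => by
      have := hle ψ
      have h0 := (Finset.mem_filter.1 hψ).2
      rw [show m ψ = 0 by omega, Nat.cast_zero, zero_smul], add_zero]
    have ha : m a = 1 := (Finset.mem_filter.1 (show a ∈ T by rw [hT]; simp)).2
    have hb : m b = 1 := (Finset.mem_filter.1 (show b ∈ T by rw [hT]; simp)).2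
    rw [ha, hb, Nat.cast_one, one_smul, one_smul]
  have hpos : ∀ c : IrrCharacter G, (c = a ∨ c = b) →
      ∃ n : ℕ, 1 ≤ n ∧ ∑ v : U, (c : G → ℂ) v = 27 * n := by
    intro c hc
    obtain ⟨k, hk⟩ := IsCharacter.exists_decomp
      (IsCharacter.restrict (IsIrrCharacter.isCharacter c.2) D.B)
    set lam : IrrCharacter D.B := ⟨_, isIrrCharacter_linear L⟩
    have hkl : k lam = 1 := by
      have hc1 : classInner Λ (c : G → ℂ) = 1 := by
        rw [hΛab, classInner_add_left]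
        rcases hc with rfl | rfl
        · rw [classInner_self_irr c.2, classInner_irr_of_ne b.2 c.2
            (fun e => hab (Subtype.ext e).symm), add_zero]
        · rw [classInner_self_irr c.2, classInner_irr_of_ne a.2 c.2
            (fun e => hab (Subtype.ext e)), zero_add]
      rw [hΛ, classInner_indFun_left D.B _
        (IsCharacter.isClassFunction (IsIrrCharacter.isCharacter c.2))] at hc1
      have h2 := classInner_combination (fun ψ => (k ψ : ℂ)) lam
      rw [← hk] at h2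
      rw [← classInner_conj_symm] at hc1
      have : ((k lam : ℕ) : ℂ) = 1 := by
        rw [← h2]
        have := congrArg conj hc1
        simpa using this
      exact_mod_cast this
    have hnat : ∀ ψ : IrrCharacter D.B, ∃ n : ℕ,
        ∑ v : U, (ψ : D.B → ℂ) ⟨v, D.le_B v.2⟩ = 27 * n := by
      intro ψ
      obtain ⟨n, hn⟩ := IsCharacter.exists_classInner_nat
        (IsCharacter.comp (IsIrrCharacter.isCharacter ψ.2) (Subgroup.inclusion D.le_B))
        (isCharacter_one (G := U))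
      refine ⟨n, ?_⟩
      rw [Cfsg.classInner, D.cardU] at hn
      simp only [map_one, mul_one, Function.comp_apply] at hn
      rw [← hn, ← mul_assoc, show (27 : ℂ) * ((27 : ℕ) : ℂ)⁻¹ = 1 by norm_num, one_mul]
      rfl
    choose n hn using hnat
    refine ⟨∑ ψ, k ψ * n ψ, ?_, ?_⟩
    · refine le_trans ?_ (Finset.single_le_sum (f := fun ψ => k ψ * n ψ)
        (fun _ _ => Nat.zero_le _) (Finset.mem_univ lam))
      rw [hkl, one_mul]
      have := hn lam
      rw [Finset.sum_congr rfl fun (v : U) _ => show (lam : D.B → ℂ) ⟨v, D.le_B v.2⟩ = 1 by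
        show ((L ⟨(v : G), D.le_B v.2⟩ : ℂˣ) : ℂ) = 1
        rw [hLU _ v.2, Units.val_one], Finset.sum_const, Finset.card_univ,
        ← Nat.card_eq_fintype_card, D.cardU] at this
      by_contra h0
      rw [show n lam = 0 by omega] at this
      norm_num at this
    · rw [Finset.sum_congr rfl fun (v : U) _ => show (c : G → ℂ) (v : G) = ∑ ψ : IrrCharacter D.B,
          (k ψ : ℂ) * (ψ : D.B → ℂ) ⟨v, D.le_B v.2⟩ by
        have := congrFun hk ⟨v, D.le_B v.2⟩
        simpa [Finset.sum_apply] using this, Finset.sum_comm]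
      push_cast
      rw [Finset.mul_sum]
      refine Finset.sum_congr rfl fun ψ _ => ?_
      rw [← Finset.mul_sum, hn]
      ring
  obtain ⟨na, hna1, hna⟩ := hpos a (Or.inl rfl)
  obtain ⟨nb, hnb1, hnb⟩ := hpos b (Or.inr rfl)
  have hnn : na + nb = 2 := by
    have h2 := D.sum_ind hG L hLU
    rw [← hΛ, hΛab] at h2
    simp only [Pi.add_apply, Finset.sum_add_distrib, hna, hnb] at h2
    have h3 : ((27 * na + 27 * nb : ℕ) : ℂ) = ((54 : ℕ) : ℂ) := by push_cast; exact h2
    have := Nat.cast_injective h3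
    omega
  have hao := D.odd_degree hG a (by rw [hna, show na = 1 by omega]; norm_num)
  have hsum : charDegree (a : G → ℂ) + charDegree (b : G → ℂ) = 28 := by
    have h2 := D.ind_one hG L
    rw [← hΛ, hΛab, Pi.add_apply, Cfsg.Agent.CharX.irr_deg, Cfsg.Agent.CharX.irr_deg] at h2
    exact_mod_cast h2
  have hone : ∀ c : IrrCharacter G, (c = a ∨ c = b) → charDegree (c : G → ℂ) ≠ 1 := by
    intro c hc h
    have hc' := DefOne.Order7920.eq_principal_of_deg_one
      (by rw [hG]; norm_num : ¬ (Nat.card G).Prime) h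
    have hi : classInner Λ (c : G → ℂ) = 1 := by
      rw [hΛab, classInner_add_left]
      rcases hc with rfl | rfl
      · rw [classInner_self_irr c.2, classInner_irr_of_ne b.2 c.2
          (fun e => hab (Subtype.ext e).symm), add_zero]
      · rw [classInner_self_irr c.2, classInner_irr_of_ne a.2 c.2
          (fun e => hab (Subtype.ext e)), zero_add]
    rw [hΛ, classInner_indFun_left D.B _
      (IsCharacter.isClassFunction (IsIrrCharacter.isCharacter c.2)), hc'] at hi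
    have hs : ∑ b : D.B, ((L b : ℂˣ) : ℂ) = 0 := by
      have e := Fintype.sum_equiv (Equiv.mulLeft (⟨x, D.x_mem⟩ : D.B))
        (fun b => ((L ((⟨x, D.x_mem⟩ : D.B) * b) : ℂˣ) : ℂ)) (fun b => ((L b : ℂˣ) : ℂ)) fun _ => rfl
      simp only [map_mul, hL, Units.val_mul, Units.val_neg, Units.val_one, neg_mul, one_mul,
        Finset.sum_neg_distrib] at e
      linear_combination (-1 / 2 : ℂ) * e
    simp only [Cfsg.classInner, principal, map_one, mul_one, hs, mul_zero] at hi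
    exact zero_ne_one hi
  have hd := Cfsg.Agent.CharX.irr_deg_dvd_card a
  have hd' := Cfsg.Agent.CharX.irr_deg_dvd_card b
  rw [hG] at hd hd'
  rw [show charDegree (b : G → ℂ) = 28 - charDegree (a : G → ℂ) by omega] at hd'
  have hb0 := Cfsg.Agent.CharX.irr_deg_pos b
  rcases odd_pair _ (by omega) hao hd hd' with h | h | h | h
  · exact absurd h (hone a (Or.inl rfl))
  · exact absurd (by omega) (hone b (Or.inr rfl))
  · exact ⟨a, h⟩
  · exact ⟨b, by omega⟩

end Fin

end BorelData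

end Cfsg.Agent.DegGraph
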