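import Cfsg.Agent.Lib.DefOne.Order7920

/-!
A simple group of order 6048 with self-centralising Sylow 7-subgroup has an irreducible
character of degree divisible by 6.
-/

set_option autoImplicit false
set_option linter.unusedSectionVars false
set_option linter.style.haveILetI false

namespace Cfsg.Agent.DegGraph

open Cfsg Cfsg.Agent.Char Cfsg.Agent.Blocks Cfsg.Agent.CCSylow Cfsg.Agent.DefOne

universe u

variable {G : Type u} [Group G] [Fintype G]

/-- The facts about the two principal families which are used below. -/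
theorem principal_families {p : ℕ} {M : Ideal AlgInt} [M.IsPrime] (hM : IsPModular p M)
    (hp2 : 2 < p) {P V N : Subgroup G} {e : ℕ} (K : Conf p P V N e) [Fintype P] [Fintype V]
    [Fintype N] [Fintype (P →* ℂˣ)] {eb : ℕ} {X Y : Finset (IrrCharacter G)} {δ : ℤ}
    {sg : IrrCharacter G → ℤ} (F : Families K (trivB V) eb X Y δ sg) :
    X.card = e ∧ Y.card * e = p - 1 ∧
    (∀ χ ∈ X, (charDegree (χ : G → ℂ) : ℤ) ≡ sg χ [ZMOD p]) ∧
    (∀ χ ∈ Y, (charDegree (χ : G → ℂ) : ℤ) ≡ -δ * e [ZMOD p]) ∧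
    (∀ θ ∈ Y, ∑ χ ∈ X, sg χ * (charDegree (χ : G → ℂ) : ℤ) +
      δ * (charDegree (θ : G → ℂ) : ℤ) = 0) ∧
    ((principal G ∈ X ∧ sg (principal G) = 1) ∨ Y = {principal G}) := by
  classical
  have hee : eb = e := eb_triv K F
  have hB := principal_eq K hM F
  have hmem : ∀ χ, χ ∈ X ∨ χ ∈ Y → χ ∈ principalBlock M G := fun χ h => by rw [hB]; exact h
  have hX : ∀ χ ∈ X, (charDegree (χ : G → ℂ) : ℤ) ≡ sg χ [ZMOD p] := fun χ hχ => by
    have h := degree_congr K hM (hmem χ (Or.inl hχ))
    rw [Families.sum_X K F hχ] at h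
    exact h.trans (Int.modEq_iff_dvd.2 ⟨sg χ, by ring⟩)
  have h1p : ¬ p ∣ orderOf (1 : G) := by simpa using K.hp.ne_one
  refine ⟨F.cardX.trans hee, hee ▸ F.cardY, hX, fun χ hχ => ?_, fun θ hθ => ?_, ?_⟩
  · have h := degree_congr K hM (hmem χ (Or.inr hχ))
    rw [F.sumY χ hχ, hee] at h
    simpa using h
  · have h := Families.relation K F hθ h1p
    simp only [irr_one_eq_charDegree] at h
    exact_mod_cast h
  · have h : principal G ∈ X ∨ principal G ∈ Y := by
      have := Cfsg.Agent.Blocks.principal_mem_principalBlock (M := M) (G := G)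
      rw [hB] at this
      exact this
    rcases h with h | h
    · refine Or.inl ⟨h, ?_⟩
      have h2 := hX _ h
      have h3 : charDegree (principal G : G → ℂ) = 1 := Cfsg.Agent.CharX.charDegree_one
      rw [h3] at h2
      rcases F.signX _ h with e1 | e1
      · exact e1
      · rw [e1, Int.modEq_iff_dvd] at h2
        exact absurd (Int.le_of_dvd (by norm_num) (dvd_neg.2 h2)) (by omega)
    · refine Or.inr (Finset.eq_singleton_iff_unique_mem.2 ⟨h, fun θ hθ => ?_⟩)
      obtain ⟨σ, -, rfl⟩ := F.transY _ h θ hθ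
      exact Subtype.ext (funext fun g => map_one σ)

theorem cand_X : ∀ d : ℕ, d < 78 → d ∣ 6048 → (d % 7 = 1 ∨ d % 7 = 6) → ¬ 6 ∣ d →
    d = 1 ∨ d = 8 ∨ d = 27 := by decide

theorem cand_Y : ∀ d : ℕ, d < 78 → d ∣ 6048 → (d % 7 = 3 ∨ d % 7 = 4) → ¬ 6 ∣ d →
    d = 3 ∨ d = 4 ∨ d = 32 := by decide

theorem deg_lt_78 (hG : Nat.card G = 6048) (χ : IrrCharacter G) :
    charDegree (χ : G → ℂ) < 78 ∧ charDegree (χ : G → ℂ) ∣ 6048 := by
  refine ⟨?_, hG ▸ charDegree_dvd_card χ⟩
  have h : charDegree (χ : G → ℂ) ^ 2 ≤ 6048 := by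
    rw [← hG, ← Cfsg.Agent.CharX.sum_deg_sq]
    exact Finset.single_le_sum (f := fun χ : IrrCharacter G => charDegree (χ : G → ℂ) ^ 2)
      (fun _ _ => Nat.zero_le _) (Finset.mem_univ χ)
  by_contra hc
  have : 78 ^ 2 ≤ charDegree (χ : G → ℂ) ^ 2 := Nat.pow_le_pow_left (by omega) 2
  omega

theorem exists_deg_six [IsSimpleGroup G] (hG : Nat.card G = 6048) {y : G} (hy : orderOf y = 7)
    (hC : ∀ g : G, g * y = y * g → g ∈ Subgroup.zpowers y) :
    ∃ χ : IrrCharacter G, 6 ∣ charDegree (χ : G → ℂ) := by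
  classical
  by_contra hcon
  push Not at hcon
  haveI : Fact (Nat.Prime 7) := ⟨by norm_num⟩
  have hfac : (Nat.card G).factorization 7 = 1 := by
    rw [hG, show (6048 : ℕ) = 7 * 864 by norm_num,
      Nat.factorization_mul (by norm_num) (by norm_num), Finsupp.add_apply,
      Nat.Prime.factorization_self (by norm_num),
      Nat.factorization_eq_zero_of_not_dvd (by norm_num : ¬ 7 ∣ 864)]
  obtain ⟨P, hyP⟩ := (IsPGroup.of_card (n := 1) (by
    rw [Nat.card_zpowers, hy, pow_one]) : IsPGroup 7 (Subgroup.zpowers y)).exists_le_sylow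
  have hP : Nat.card P = 7 := by rw [Sylow.card_eq_multiplicity, hfac, pow_one]
  have hPe : Subgroup.zpowers y = (P : Subgroup G) :=
    Subgroup.eq_of_le_of_card_ge hyP (by rw [Nat.card_zpowers, hy, hP])
  obtain ⟨V, e, K, -⟩ := exists_conf (Fact.out : Nat.Prime 7) P hP
  haveI : Fintype (P : Subgroup G) := Fintype.ofFinite _
  haveI : Fintype V := Fintype.ofFinite _
  haveI : Fintype (Subgroup.normalizer ((P : Subgroup G) : Set G)) := Fintype.ofFinite _
  haveI : Fintype ((P : Subgroup G) →* ℂˣ) := Fintype.ofFinite _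
  have hV1 : Nat.card V = 1 := by
    have hle : Subgroup.centralizer ((P : Subgroup G) : Set G) ≤ Subgroup.zpowers y := fun g hg =>
      hC g (Subgroup.mem_centralizer_iff.1 hg y (hPe ▸ Subgroup.mem_zpowers y)).symm
    have h := Nat.le_of_dvd Nat.card_pos (Subgroup.card_dvd_of_le hle)
    rw [card_centralizer K, Nat.card_zpowers, hy] at h
    have : 0 < Nat.card V := Nat.card_pos
    omega
  have he : e = 3 := by
    have hd : e ∣ 6 := by
      have := dvd_card_sub_one K.D
      rwa [K.hP] at this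
    have hmod : (Subgroup.normalizer ((P : Subgroup G) : Set G)).index % 7 = 1 := by
      have h := card_sylow_modEq_one 7 G
      rw [P.card_eq_index_normalizer] at h
      exact Nat.mod_eq_of_modEq h (by norm_num)
    have h := (Subgroup.normalizer ((P : Subgroup G) : Set G)).index_mul_card
    rw [K.D.hcard, K.hP, hV1, hG] at h
    generalize (Subgroup.normalizer ((P : Subgroup G) : Set G)).index = n at h hmod
    have := Nat.le_of_dvd (by norm_num) hd
    interval_cases e <;> omega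
  obtain ⟨M, hM⟩ := exists_isPModular_witness 7
  haveI := IsPModular.isPrime hM
  obtain ⟨eb, X, Y, δ, sg, F⟩ := exists_families K hM (trivB V)
  obtain ⟨hXc, hYc, hXd, hYd, hrel, hprin⟩ := principal_families hM (by norm_num) K F
  subst he
  have hY2 : Y.card = 2 := by omega
  obtain ⟨hpX, hpsg⟩ := hprin.resolve_right fun h => by rw [h] at hY2; simp at hY2
  have hnp : ¬ (Nat.card G).Prime := by rw [hG]; norm_num
  have hd1 : charDegree (principal G : G → ℂ) = 1 := Cfsg.Agent.CharX.charDegree_one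
  have hXv : ∀ χ ∈ X.erase (principal G), sg χ * (charDegree (χ : G → ℂ) : ℤ) = 8 ∨
      sg χ * (charDegree (χ : G → ℂ) : ℤ) = -27 := by
    intro χ hχ
    obtain ⟨hne, hχX⟩ := Finset.mem_erase.1 hχ
    obtain ⟨b1, b2⟩ := deg_lt_78 hG χ
    have h := hXd χ hχX
    rcases F.signX χ hχX with e1 | e1 <;> rw [e1, Int.ModEq] at h <;>
      rcases cand_X _ b1 b2 (by omega) (hcon χ) with h2 | h2 | h2
    all_goals first
      | exact absurd (Order7920.eq_principal_of_deg_one hnp h2) hne
      | (rw [h2] at h; norm_num at h; done)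
      | (rw [h2, e1]; norm_num)
  obtain ⟨θ, hθ⟩ := F.nonempty
  have hrel' := hrel θ hθ
  rw [← Finset.add_sum_erase _ _ hpX, hpsg, hd1] at hrel'
  obtain ⟨a, b, hab, hXe⟩ := Finset.card_eq_two.1 (show (X.erase (principal G)).card = 2 by
    rw [Finset.card_erase_of_mem hpX, hXc])
  rw [hXe, Finset.sum_pair hab] at hrel'
  have ha := hXv a (by rw [hXe]; simp)
  have hb := hXv b (by rw [hXe]; simp)
  obtain ⟨t1, t2⟩ := deg_lt_78 hG θ
  have hY := hYd θ hθ
  rcases F.sign with e1 | e1 <;> rw [e1] at hrel' hY <;> rw [Int.ModEq] at hY <;>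
    push_cast at hY <;>
    rcases cand_Y _ t1 t2 (by omega) (hcon θ) with h2 | h2 | h2 <;>
    rw [h2] at hrel' hY <;> omega

end Cfsg.Agent.DegGraph
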