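import Cfsg.Agent.Lib.Char.Burnside
import Cfsg.Agent.Lib.DegGraph.Small6000.Basic

/-!
A group that is not solvable has at least three degree primes.
-/

set_option autoImplicit false
set_option linter.style.haveILetI false

namespace Cfsg.Agent.DegThree

open Cfsg Cfsg.Agent.Char
open scoped ComplexConjugate

universe u

/-- In a nonabelian simple group no nontrivial element has a scalar image in a nontrivial
irreducible representation. -/
theorem norm_ne {S : Type u} [Group S] [Finite S] [IsSimpleGroup S] (hna : ¬ IsMulCommutative S)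
    {g : S} (hg : g ≠ 1) {n : ℕ} (ρ : Representation ℂ S (Fin n → ℂ)) (hρ : ρ.IsIrreducible)
    (hne : ρ.character ≠ fun _ => 1) :
    ‖ρ.character g‖ ≠ (Module.finrank ℂ (Fin n → ℂ) : ℝ) := by
  haveI : Fintype S := Fintype.ofFinite S
  intro hnorm
  obtain ⟨ω, hω⟩ := (norm_char_eq_iff ρ g).mp hnorm
  have hinj : Function.Injective ρ := by
    rw [injective_iff_map_eq_one]
    rcases (IsSimpleGroup.eq_bot_or_eq_top_of_normal ρ.ker inferInstance).symm with h | h
    · exfalso
      apply hne
      have hone : ∀ x, ρ x = 1 := fun x => (h ▸ Subgroup.mem_top x : x ∈ ρ.ker)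
      have hn : (Module.finrank ℂ (Fin n → ℂ) : ℂ) = 1 := by
        have h1 := classInner_self_irr (isIrrCharacter_of_rep ρ)
        have hc : ρ.character = fun _ => (Module.finrank ℂ (Fin n → ℂ) : ℂ) := funext fun x => by
          simp [Representation.character, hone x]
        rw [hc] at h1
        simp [Cfsg.classInner] at h1
        have h2 : n * n = 1 := by exact_mod_cast h1
        simp [Nat.eq_one_of_mul_eq_one_left h2]
      funext x
      simpa [Representation.character, hone x] using hn
    · exact fun x hx => Subgroup.mem_bot.mp (h ▸ hx)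
  have hc : g ∈ Subgroup.center S := by
    rw [Subgroup.mem_center_iff]
    intro x
    apply hinj
    rw [map_mul, map_mul, hω]
    simp [← Module.End.one_eq_id]
  have htop : Subgroup.center S = ⊤ :=
    (IsSimpleGroup.eq_bot_or_eq_top_of_normal (Subgroup.center S) inferInstance).resolve_left
      fun h => hg (Subgroup.mem_bot.mp (h ▸ hc))
  exact hna ⟨⟨fun a b => ((Subgroup.mem_center_iff.mp (htop ▸ Subgroup.mem_top b)) a)⟩⟩

/-- An element with class size prime to a prime `q`. -/
theorem exists_class_prime_to (S : Type u) [Group S] [Finite S] [Nontrivial S] {q : ℕ}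
    (hq : q.Prime) :
    ∃ g : S, g ≠ 1 ∧ ¬ q ∣ (Subgroup.centralizer ({g} : Set S)).index := by
  haveI := Fact.mk hq
  by_cases hd : q ∣ Nat.card S
  · obtain ⟨P⟩ : Nonempty (Sylow q S) := inferInstance
    haveI : Nontrivial P := by
      rw [← Finite.one_lt_card_iff_nontrivial, Sylow.card_eq_multiplicity]
      exact Nat.one_lt_pow (hq.factorization_pos_of_dvd Nat.card_pos.ne' hd).ne' hq.one_lt
    haveI := P.2.center_nontrivial
    obtain ⟨z, hz⟩ := exists_ne (1 : Subgroup.center P)
    have hg : ((z : P) : S) ≠ 1 := fun h => hz (Subtype.ext (Subtype.ext h))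
    have hle : (P : Subgroup S) ≤ Subgroup.centralizer ({((z : P) : S)} : Set S) := by
      intro x hx
      rw [Subgroup.mem_centralizer_singleton_iff]
      exact congrArg Subtype.val (Subgroup.mem_center_iff.mp z.2 ⟨x, hx⟩)
    exact ⟨_, hg, fun h => P.not_dvd_index (h.trans (Subgroup.index_dvd_of_le hle))⟩
  · obtain ⟨g, hg⟩ := exists_ne (1 : S)
    exact ⟨g, hg, fun h => hd (h.trans (Subgroup.index_dvd_card _))⟩

/-- A nonabelian simple group has a degree prime outside any two given primes. -/
theorem exists_third {S : Type u} [Group S] [Finite S] [IsSimpleGroup S]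
    (hna : ¬ IsMulCommutative S) {p q : ℕ} (hp : p.Prime) (hq : q.Prime) :
    ∃ r ∈ degreePrimes S, r ≠ p ∧ r ≠ q := by
  classical
  haveI : Fintype S := Fintype.ofFinite S
  obtain ⟨g, hg, hidx⟩ := exists_class_prime_to S hq
  have hcol : ∑ χ : Cfsg.IrrCharacter S, (χ : S → ℂ) g * conj ((χ : S → ℂ) 1) = 0 :=
    column_orth_of_not_isConj (fun h => hg (isConj_one_left.mp h))
  by_contra hcon
  push Not at hcon
  rw [← Finset.add_sum_erase Finset.univ _ (Finset.mem_univ (principal S))] at hcol
  rw [show ((principal S : Cfsg.IrrCharacter S) : S → ℂ) = fun _ => 1 from rfl] at hcol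
  simp only [map_one, mul_one] at hcol
  set T := ∑ χ ∈ (Finset.univ : Finset (Cfsg.IrrCharacter S)).erase (principal S),
    (χ : S → ℂ) g * conj ((χ : S → ℂ) 1) with hT
  have hint : IsIntegral ℤ (T / p) := by
    rw [hT, Finset.sum_div]
    refine IsIntegral.sum _ fun χ hχ => ?_
    obtain ⟨n, ρ, hρ, hρχ⟩ := χ.2
    have hne : ρ.character ≠ fun _ => 1 := by
      intro h
      exact (Finset.mem_erase.mp hχ).1 (Subtype.ext (hρχ ▸ h))
    rw [← hρχ, Representation.char_one, map_natCast, mul_div_assoc]
    by_cases hpd : p ∣ Module.finrank ℂ (Fin n → ℂ)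
    · obtain ⟨c, hc⟩ := hpd
      rw [hc, Nat.cast_mul, mul_div_cancel_left₀ _ (Nat.cast_ne_zero.mpr hp.ne_zero)]
      exact (isIntegral_char ρ g).mul ((isIntegral_algebraMap (R := ℤ) (A := ℂ) (x := (c : ℤ))))
    · have hdeg : Module.finrank ℂ (Fin n → ℂ) ∈ charDegrees S := by
        refine ⟨χ, ?_⟩
        simp [Cfsg.charDegree, ← hρχ, Representation.char_one]
      have hcop : Nat.Coprime (Module.finrank ℂ (Fin n → ℂ))
          (Subgroup.centralizer ({g} : Set S)).index := by
        refine Nat.coprime_of_dvd fun r hr hr1 hr2 => ?_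
        have hmem : r ∈ degreePrimes S := ⟨hr, _, hdeg, hr1⟩
        exact hidx (hcon r hmem (fun h => hpd (h ▸ hr1)) ▸ hr2)
      rcases eq_zero_or_norm_eq ρ g hcop with h | h
      · rw [h, zero_mul]; exact isIntegral_zero
      · exact absurd h (norm_ne hna hg ρ hρ hne)
  have hT1 : T = -1 := by linear_combination hcol
  rw [hT1, ← Nat.cast_one (R := ℂ)] at hint
  have hint' : IsIntegral ℤ (((1 : ℕ) : ℂ) / (p : ℂ)) := by
    have := hint.neg
    rw [neg_div, neg_neg] at this
    exact this
  have := dvd_of_isIntegral_div hp.ne_zero hint'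
  exact hp.ne_one (Nat.dvd_one.mp this)

/-- A group that is not solvable has a nonabelian simple quotient of a normal subgroup. -/
theorem exists_simple_section {G : Type u} [Group G] [Finite G] (hns : ¬ Group.IsSolvable G) :
    ∃ (T0 : Subgroup G) (_ : T0.Normal) (K : Subgroup T0) (_ : K.Normal),
      IsSimpleGroup (T0 ⧸ K) ∧ ¬ IsMulCommutative (T0 ⧸ K) := by
  classical
  obtain ⟨-, ⟨k, rfl⟩, hmin⟩ := (wellFounded_lt (α := Subgroup G)).has_min
    (Set.range (derivedSeries G)) (Set.range_nonempty _)
  set T0 := derivedSeries G k with hT0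
  haveI hT0n : T0.Normal := derivedSeries_normal G k
  have hperf : ⁅T0, T0⁆ = T0 := by
    refine le_antisymm (Subgroup.commutator_le_left T0 T0) ?_
    by_contra h
    exact hmin _ ⟨k + 1, derivedSeries_succ G k⟩
      (lt_of_le_not_ge (Subgroup.commutator_le_left T0 T0) h)
  have hT0ne : T0 ≠ ⊥ := fun h => hns ((Group.isSolvable_def G).2 ⟨k, h⟩)
  haveI : Nontrivial T0 := (Subgroup.nontrivial_iff_ne_bot T0).2 hT0ne
  obtain ⟨K, ⟨hKn, hKt⟩, hmax⟩ := (wellFounded_gt (α := Subgroup T0)).has_min
    {K : Subgroup T0 | K.Normal ∧ K ≠ ⊤} ⟨⊥, inferInstance, bot_ne_top⟩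
  haveI := hKn
  have hcomT : commutator T0 = ⊤ := by
    refine Subgroup.map_injective T0.subtype_injective ?_
    rw [commutator_def, Subgroup.map_commutator, ← MonoidHom.range_eq_map,
      Subgroup.range_subtype, hperf]
  refine ⟨T0, hT0n, K, hKn, ?_, ?_⟩
  · haveI : Nontrivial (T0 ⧸ K) := by
      refine Finite.one_lt_card_iff_nontrivial.1 ?_
      rw [← Subgroup.index_eq_card]
      exact lt_of_le_of_ne (Nat.pos_of_ne_zero Subgroup.index_ne_zero_of_finite)
        fun h => hKt (Subgroup.index_eq_one.1 h.symm)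
    refine ⟨fun H hH => ?_⟩
    have hle : K ≤ H.comap (QuotientGroup.mk' K) := by
      intro a ha
      rw [Subgroup.mem_comap,
        show QuotientGroup.mk' K a = 1 from (QuotientGroup.eq_one_iff a).2 ha]
      exact one_mem H
    by_cases htop : H.comap (QuotientGroup.mk' K) = ⊤
    · right
      rw [← Subgroup.map_comap_eq_self_of_surjective (QuotientGroup.mk'_surjective K) H, htop,
        Subgroup.map_top_of_surjective _ (QuotientGroup.mk'_surjective K)]
    · left
      have heq : H.comap (QuotientGroup.mk' K) = K := by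
        by_contra hne
        exact hmax _ ⟨hH.comap _, htop⟩ (lt_of_le_of_ne hle (Ne.symm hne))
      rw [← Subgroup.map_comap_eq_self_of_surjective (QuotientGroup.mk'_surjective K) H, heq,
        QuotientGroup.map_mk'_self]
  · intro hc
    refine hKt (top_le_iff.1 ?_)
    rw [← hcomT, commutator_def, Subgroup.commutator_le]
    intro a _ b _
    rw [← QuotientGroup.eq_one_iff, ← QuotientGroup.mk'_apply, map_commutatorElement]
    exact commutatorElement_eq_one_iff_mul_comm.2 (hc.is_comm.comm _ _)

/-- Three distinct degree primes in a group that is not solvable. -/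
theorem three_primes {G : Type u} [Group G] [Finite G] (hns : ¬ Group.IsSolvable G) :
    ∃ p q r : ℕ, p ≠ q ∧ q ≠ r ∧ p ≠ r ∧
      p ∈ degreePrimes G ∧ q ∈ degreePrimes G ∧ r ∈ degreePrimes G := by
  obtain ⟨T0, _, K, _, hs, hna⟩ := exists_simple_section hns
  have hsub : degreePrimes (T0 ⧸ K) ⊆ degreePrimes G := by
    rintro r ⟨hr, d, hd, hrd⟩
    obtain ⟨e, he, hde⟩ := DegSix.Basic.exists_dvd_above T0
      (DegSix.Basic.charDegrees_comp_subset (QuotientGroup.mk' K)
        (QuotientGroup.mk'_surjective K) hd)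
    exact ⟨hr, e, he, hrd.trans hde⟩
  obtain ⟨a, ha, -, -⟩ := exists_third hna Nat.prime_two Nat.prime_two
  obtain ⟨b, hb, hba, -⟩ := exists_third hna ha.1 ha.1
  obtain ⟨c, hc, hca, hcb⟩ := exists_third hna ha.1 hb.1
  exact ⟨a, b, c, hba.symm, hcb.symm, hca.symm, hsub ha, hsub hb, hsub hc⟩

end Cfsg.Agent.DegThree
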