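import Cfsg.Prelude.Def_DegreeGraph
import Cfsg.Agent.Lib.J2.U33
import Cfsg.Agent.Lib.DegGraph.Six
import Cfsg.Agent.Lib.DegGraph.Induced
import Cfsg.Agent.Lib.DegGraph.F9Code

/-!
Finite checks in SU₃(3): a Sylow 3-subgroup with its torus, and an element of order 7.
-/

set_option autoImplicit false
set_option maxRecDepth 20000
set_option linter.style.haveILetI false

namespace Cfsg.Agent.DegGraph

open Matrix Cfsg.Agent.J2

/-- Three by three matrices over the field with nine elements. -/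
abbrev M9 := Matrix (Fin 3) (Fin 3) F9

/-- Data. -/
def uList : List M9 := uC.map C9.dec
/-- Data. -/
def cList : List M9 := cC.map C9.dec
/-- Data. -/
def xM : M9 := xC.dec
/-- Data. -/
def wM : M9 := wC.dec
/-- Data. -/
def yM : M9 := yC.dec
/-- Data. -/
def kiM : M9 := kiC.dec

/-- The determinant, written out. -/
def det9 (A : M9) : F9 :=
  A 0 0 * A 1 1 * A 2 2 - A 0 0 * A 1 2 * A 2 1 - A 0 1 * A 1 0 * A 2 2 + A 0 1 * A 1 2 * A 2 0 +
    A 0 2 * A 1 0 * A 2 1 - A 0 2 * A 1 1 * A 2 0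

theorem det9_eq (A : M9) : det9 A = A.det := (Matrix.det_fin_three A).symm

/-- Membership in SU₃(3), decidably. -/
def su9 (A : M9) : Prop := Aᵀ * A.map F9.conj = 1 ∧ det9 A = 1

instance (A : M9) : Decidable (su9 A) := instDecidableAnd

/-- A matrix as an element of SU₃(3). -/
def toSU (A : M9) (h : su9 A) : SU9 :=
  ⟨⟨A, (det9_eq A).symm.trans h.2⟩, (HermSU.mem_SU_iff (q := 3) F9.conj_eq_pow _).2 h.1⟩

theorem su9_coe (g : SU9) : su9 (g.1.1 : M9) :=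
  ⟨(HermSU.mem_SU_iff (q := 3) F9.conj_eq_pow _).1 g.2, (det9_eq _).trans g.1.2⟩

theorem toSU_coe (A : M9) (h : su9 A) : ((toSU A h).1.1 : M9) = A := rfl

theorem su_ext {g h : SU9} (e : (g.1.1 : M9) = h.1.1) : g = h := Subtype.ext (Subtype.ext e)

theorem mul_coe (g h : SU9) : ((g * h).1.1 : M9) = g.1.1 * h.1.1 := rfl

theorem one_coe : ((1 : SU9).1.1 : M9) = 1 := rfl

theorem pow_coe (g : SU9) (n : ℕ) : ((g ^ n).1.1 : M9) = (g.1.1 : M9) ^ n := by
  induction n with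
  | zero => rfl
  | succ n ih => rw [pow_succ, pow_succ, mul_coe, ih]

theorem su_of (A : C9) (h : A.su = true) : su9 A.dec :=
  ⟨((C9.su_iff A).1 h).1, (det9_eq _).trans ((C9.su_iff A).1 h).2⟩

theorem u_su : ∀ m ∈ uList, su9 m := fun m hm => by
  obtain ⟨a, ha, rfl⟩ := List.mem_map.1 hm
  exact su_of a ((show ∀ a ∈ uC, a.su = true by decide +kernel) a ha)
theorem x_su : su9 xM := su_of _ (by decide +kernel)
theorem w_su : su9 wM := su_of _ (by decide +kernel)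
theorem y_su : su9 yM := su_of _ (by decide +kernel)
theorem c_su : ∀ m ∈ cList, su9 m := fun m hm => by
  obtain ⟨a, ha, rfl⟩ := List.mem_map.1 hm
  exact su_of a ((show ∀ a ∈ cC, a.su = true by decide +kernel) a ha)
theorem u_one : (1 : M9) ∈ uList := List.mem_map.2 ⟨C9.one, by decide +kernel, C9.dec_one⟩
theorem u_mul : ∀ m ∈ uList, ∀ n ∈ uList, m * n ∈ uList := fun m hm n hn => by
  obtain ⟨a, ha, rfl⟩ := List.mem_map.1 hm
  obtain ⟨b, hb, rfl⟩ := List.mem_map.1 hn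
  exact List.mem_map.2 ⟨C9.mul a b,
    (show ∀ a ∈ uC, ∀ b ∈ uC, C9.mul a b ∈ uC by decide +kernel) a ha b hb, C9.dec_mul a b⟩
theorem u_inv : ∀ m ∈ uList, ∃ n ∈ uList, n * m = 1 := fun m hm => by
  obtain ⟨a, ha, rfl⟩ := List.mem_map.1 hm
  obtain ⟨b, hb, e⟩ := (show ∀ a ∈ uC, ∃ b ∈ uC, C9.mul b a = C9.one by decide +kernel) a ha
  exact ⟨b.dec, List.mem_map.2 ⟨b, hb, rfl⟩, by rw [← C9.dec_mul, e, C9.dec_one]⟩
theorem u_nodup : uList.Nodup ∧ uList.length = 27 := by decide +kernel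
theorem x_conj : ∀ m ∈ uList, ∃ n ∈ uList, xM * m = n * xM := fun m hm => by
  obtain ⟨a, ha, rfl⟩ := List.mem_map.1 hm
  obtain ⟨b, hb, e⟩ := (show ∀ a ∈ uC, ∃ b ∈ uC, C9.mul xC a = C9.mul b xC by decide +kernel) a ha
  exact ⟨b.dec, List.mem_map.2 ⟨b, hb, rfl⟩, by rw [xM, ← C9.dec_mul, e, C9.dec_mul]⟩
theorem x_ord : xM ^ 4 ≠ 1 ∧ xM ^ 8 = 1 := by decide +kernel
theorem w_conj : xM * wM = wM * xM ^ 5 := by decide +kernel
theorem u_inter : ∀ m ∈ uList, ∀ n ∈ uList, m * wM = wM * n → m = 1 := fun m hm n hn h => by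
  obtain ⟨a, ha, rfl⟩ := List.mem_map.1 hm
  obtain ⟨b, hb, rfl⟩ := List.mem_map.1 hn
  rw [wM, ← C9.dec_mul, ← C9.dec_mul] at h
  rw [(show ∀ a ∈ uC, ∀ b ∈ uC, C9.mul a wC = C9.mul wC b → a = C9.one by decide +kernel) a ha b hb
    (C9.dec_inj (C9.wf_mul _ _) (C9.wf_mul _ _) h), C9.dec_one]
theorem u_real : ∀ m ∈ uList, ∃ c ∈ cList, m * c * m = c := fun m hm => by
  obtain ⟨a, ha, rfl⟩ := List.mem_map.1 hm
  obtain ⟨b, hb, e⟩ := (show ∀ a ∈ uC, ∃ b ∈ cC, C9.mul (C9.mul a b) a = b by decide +kernel) a ha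
  exact ⟨b.dec, List.mem_map.2 ⟨b, hb, rfl⟩, by rw [← C9.dec_mul, ← C9.dec_mul, e]⟩
theorem y_ord : yM ≠ 1 ∧ yM ^ 7 = 1 := by decide +kernel

/-- The matrix with columns `v`, `yv`, `y²v`. -/
def colsY (v : Fin 3 → F9) : M9 := Matrix.of fun i j => ![v, yM *ᵥ v, yM *ᵥ (yM *ᵥ v)] j i

/-- The matrix with first column `e`, coded. -/
def kM : M9 := colsY ![1, 0, 0]

theorem k_eq : kM = colsY ![1, 0, 0] ∧ kM * kiM = 1 := ⟨rfl, by decide +kernel⟩

/-- Coded `colsY`. -/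
def colsC (a b c : ℕ) : C9 :=
  let p := C9.dot yC.a00 yC.a01 yC.a02 a b c
  let q := C9.dot yC.a10 yC.a11 yC.a12 a b c
  let r := C9.dot yC.a20 yC.a21 yC.a22 a b c
  ⟨a, p, C9.dot yC.a00 yC.a01 yC.a02 p q r, b, q, C9.dot yC.a10 yC.a11 yC.a12 p q r,
    c, r, C9.dot yC.a20 yC.a21 yC.a22 p q r⟩

theorem colsC_dec (a b c : ℕ) : (colsC a b c).dec = colsY ![dE a, dE b, dE c] := by
  ext i j
  fin_cases i <;> fin_cases j <;>
    simp [colsC, colsY, C9.dec, C9.dot, dE_add, dE_mul, yM, Matrix.mulVec, dotProduct,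
      Fin.sum_univ_three] <;> ring

theorem y_check : ∀ a b c : Fin 9,
    (C9.mul (colsC a b c) kiC).su = true → C9.mul (colsC a b c) kiC ∈ yPows := by decide +kernel

theorem y_pows : ∀ A ∈ yPows, ∃ i, i < 7 ∧ A.dec = yM ^ i := by decide +kernel

theorem y_cent : ∀ a b c : F9, su9 (colsY ![a, b, c] * kiM) →
    colsY ![a, b, c] * kiM ∈ (List.range 7).map (fun i => yM ^ i) := by
  intro a b c h
  obtain ⟨na, hna, rfl⟩ := dE_surj a
  obtain ⟨nb, hnb, rfl⟩ := dE_surj b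
  obtain ⟨nc, hnc, rfl⟩ := dE_surj c
  rw [kiM, ← colsC_dec, ← C9.dec_mul] at h ⊢
  obtain ⟨i, hi, e⟩ := y_pows _ (y_check ⟨na, hna⟩ ⟨nb, hnb⟩ ⟨nc, hnc⟩
    ((C9.su_iff _).2 ⟨h.1, (det9_eq _).symm.trans h.2⟩))
  exact List.mem_map.2 ⟨i, List.mem_range.2 hi, e.symm⟩

/-- The Sylow 3-subgroup. -/
def uSub : Subgroup SU9 where
  carrier := {g | (g.1.1 : M9) ∈ uList}
  one_mem' := u_one
  mul_mem' {g h} hg hh := u_mul _ hg _ hh
  inv_mem' {g} hg := by
    obtain ⟨n, hn, hn1⟩ := u_inv _ hg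
    have e : g⁻¹ = toSU n (u_su n hn) := by
      rw [inv_eq_iff_mul_eq_one.trans (Iff.rfl)] at *
      exact su_ext (show (g.1.1 : M9) * n = 1 from mul_eq_one_comm.1 hn1)
    show (g⁻¹).1.1 ∈ uList
    rw [e]
    exact hn

theorem mem_uSub {g : SU9} : g ∈ uSub ↔ (g.1.1 : M9) ∈ uList := Iff.rfl

theorem card_uSub : Nat.card uSub = 27 := by
  rw [← u_nodup.2, ← List.toFinset_card_of_nodup u_nodup.1, ← Nat.card_eq_finsetCard]
  exact Nat.card_congr
    { toFun := fun g => ⟨g.1.1.1, List.mem_toFinset.2 g.2⟩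
      invFun := fun m => ⟨toSU m.1 (u_su _ (List.mem_toFinset.1 m.2)), List.mem_toFinset.1 m.2⟩
      left_inv := fun g => Subtype.ext (su_ext rfl)
      right_inv := fun m => rfl }

theorem borelData : BorelData uSub (toSU xM x_su) (toSU wM w_su) where
  cardU := card_uSub
  normU v hv := by
    obtain ⟨n, hn, e⟩ := x_conj _ hv
    have h : toSU xM x_su * v = toSU n (u_su n hn) * toSU xM x_su := su_ext e
    rw [h, mul_inv_cancel_right]
    exact hn
  ordx := by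
    refine orderOf_eq_prime_pow (p := 2) (n := 2) ?_ ?_
    · intro h
      refine x_ord.1 ?_
      have h' := congrArg (fun g : SU9 => (g.1.1 : M9)) h
      simp only [pow_coe, one_coe, toSU_coe] at h'
      exact h'
    · refine su_ext ?_
      rw [pow_coe, one_coe]
      exact x_ord.2
  wx := by
    have h : toSU xM x_su * toSU wM w_su = toSU wM w_su * toSU xM x_su ^ 5 := by
      refine su_ext ?_
      rw [mul_coe, mul_coe, pow_coe]
      exact w_conj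
    rw [mul_assoc, h, inv_mul_cancel_left]
  inter v hv hc := by
    refine su_ext (u_inter _ hv _ hc ?_)
    have e : v * toSU wM w_su = toSU wM w_su * ((toSU wM w_su)⁻¹ * v * toSU wM w_su) := by group
    exact congrArg (fun g : SU9 => (g.1.1 : M9)) e
  real v hv := by
    obtain ⟨c, hc, e⟩ := u_real _ hv
    have h : v * toSU c (c_su c hc) * v = toSU c (c_su c hc) := su_ext e
    refine isConj_iff.2 ⟨toSU c (c_su c hc), mul_inv_eq_iff_eq_mul.2 ?_⟩
    rw [eq_inv_mul_iff_mul_eq, ← mul_assoc]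
    exact h

theorem orderOf_y : orderOf (toSU yM y_su) = 7 := by
  haveI : Fact (Nat.Prime 7) := ⟨by norm_num⟩
  refine orderOf_eq_prime ?_ ?_
  · refine su_ext ?_
    rw [pow_coe, one_coe]
    exact y_ord.2
  · exact fun h => y_ord.1 (congrArg (fun g : SU9 => (g.1.1 : M9)) h)

theorem cent_y (g : SU9) (h : g * toSU yM y_su = toSU yM y_su * g) :
    g ∈ Subgroup.zpowers (toSU yM y_su) := by
  have hm : (g.1.1 : M9) * yM = yM * g.1.1 := congrArg (fun g : SU9 => (g.1.1 : M9)) h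
  set M : M9 := g.1.1 with hM
  set v : Fin 3 → F9 := M *ᵥ ![1, 0, 0] with hv
  have hcol : M * kM = colsY v := by
    ext i j
    rw [k_eq.1]
    have hj : (M * colsY ![1, 0, 0]) i j =
        (M *ᵥ ![![1, 0, 0], yM *ᵥ ![1, 0, 0], yM *ᵥ (yM *ᵥ ![1, 0, 0])] j) i := rfl
    rw [hj]
    show _ = ![v, yM *ᵥ v, yM *ᵥ (yM *ᵥ v)] j i
    fin_cases j
    · rfl
    · show (M *ᵥ (yM *ᵥ ![1, 0, 0])) i = (yM *ᵥ v) i
      rw [hv, mulVec_mulVec, mulVec_mulVec, hm]
    · show (M *ᵥ (yM *ᵥ (yM *ᵥ ![1, 0, 0]))) i = (yM *ᵥ (yM *ᵥ v)) i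
      rw [hv, mulVec_mulVec, mulVec_mulVec, mulVec_mulVec, mulVec_mulVec, hm, mul_assoc, hm,
        ← mul_assoc]
  have hv3 : ![v 0, v 1, v 2] = v := funext fun i => by fin_cases i <;> rfl
  have hMe : M = colsY ![v 0, v 1, v 2] * kiM := by
    rw [hv3, ← hcol, mul_assoc, k_eq.2, mul_one]
  have hmem := y_cent (v 0) (v 1) (v 2) (hMe ▸ su9_coe g)
  rw [← hMe] at hmem
  obtain ⟨i, -, hi⟩ := List.mem_map.1 hmem
  refine Subgroup.mem_zpowers_iff.2 ⟨(i : ℤ), su_ext ?_⟩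
  rw [zpow_natCast, pow_coe]
  exact hi

theorem isSimple_SU9 : IsSimpleGroup SU9 := by
  obtain ⟨σ, hσ, hf, hc⟩ := UnitaryStd.exists_setup (F := F9) (q := 3) (n := 3)
    (by rw [F9.card]; norm_num) (by norm_num)
  haveI := UnitaryStd.isSimpleGroup_psu hf (le_refl 3) (fun _ => by rw [hc])
  let e : SU9 ≃* Cfsg.PSU 3 F9 3 :=
    (QuotientGroup.quotientBot (G := SU9)).symm.trans
      (QuotientGroup.quotientMulEquivOfEq center_SU9.symm)
  exact e.isSimpleGroup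

/-- The degrees needed for the degree graph of SU₃(3). -/
theorem degrees_SU9 :
    (∃ d ∈ Cfsg.charDegrees SU9, 6 ∣ d) ∧ 28 ∈ Cfsg.charDegrees SU9 ∧
      21 ∈ Cfsg.charDegrees SU9 := by
  haveI : Finite SU9 := Nat.finite_of_card_ne_zero (by rw [card_SU9]; norm_num)
  letI : Fintype SU9 := Fintype.ofFinite _
  haveI := isSimple_SU9
  refine ⟨?_, ?_, ?_⟩
  · obtain ⟨χ, hχ⟩ := exists_deg_six card_SU9 orderOf_y cent_y
    exact ⟨_, ⟨χ, rfl⟩, hχ⟩
  · exact borelData.exists_deg_28 card_SU9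
  · exact borelData.exists_deg_21 card_SU9

end Cfsg.Agent.DegGraph
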