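import Cfsg.Agent.Lib.Char.Conjugate
import Cfsg.Agent.Lib.Char.Basic
import Cfsg.Prelude.Def_DegreeGraph
import Mathlib.GroupTheory.SemidirectProduct
import Mathlib.GroupTheory.Solvable
import Mathlib.RingTheory.RootsOfUnity.Complex

/-! A solvable group of order 6048 with an irreducible character of degree 42. -/

set_option autoImplicit false
set_option maxRecDepth 20000
set_option linter.style.haveILetI false

namespace Cfsg.Agent.DegGraph

open Cfsg Cfsg.Agent.Char

/-- The module of order 144. -/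
abbrev Mod144 := (ZMod 2 × ZMod 2 × ZMod 2 × ZMod 2) × (ZMod 3 × ZMod 3)

/-- An automorphism of order 42. -/
def t42 (m : Mod144) : Mod144 :=
  ((m.1.2.1, m.1.2.2.1, m.1.1 + m.1.2.1, m.1.2.2.2), (-(m.2.1 + m.2.2), -m.2.2))

theorem t42_add : ∀ a b : Mod144, t42 (a + b) = t42 a + t42 b := by
  rintro ⟨⟨a, b, c, d⟩, e, f⟩ ⟨⟨a', b', c', d'⟩, e', f'⟩
  simp only [t42, Prod.mk_add_mk, Prod.mk.injEq]
  refine ⟨⟨trivial, trivial, ?_, trivial⟩, ?_, ?_⟩ <;> ring

theorem t42_pow : ∀ m : Mod144, (t42^[42]) m = m := by decide +kernel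

/-- The automorphism, as an element of the automorphism group. -/
def tAut : MulAut (Multiplicative Mod144) where
  toFun m := Multiplicative.ofAdd (t42 m.toAdd)
  invFun m := Multiplicative.ofAdd ((t42^[41]) m.toAdd)
  left_inv m := by
    show Multiplicative.ofAdd ((t42^[41]) (t42 m.toAdd)) = m
    rw [← Function.iterate_succ_apply, t42_pow]
    rfl
  right_inv m := by
    show Multiplicative.ofAdd (t42 ((t42^[41]) m.toAdd)) = m
    rw [← Function.iterate_succ_apply' t42, t42_pow]
    rfl
  map_mul' a b := congrArg Multiplicative.ofAdd (t42_add a.toAdd b.toAdd)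

theorem tAut_pow (n : ℕ) (m : Multiplicative Mod144) :
    ((tAut ^ n) m).toAdd = (t42^[n]) m.toAdd := by
  induction n with
  | zero => rfl
  | succ n ih =>
    rw [pow_succ', MulAut.mul_apply, Function.iterate_succ_apply', ← ih]
    rfl

theorem tAut_pow_42 : tAut ^ 42 = 1 :=
  MulEquiv.ext fun m => Multiplicative.toAdd.injective (by rw [tAut_pow, t42_pow]; rfl)

/-- The action of the cyclic group of order 42. -/
def act42 : Multiplicative (ZMod 42) →* MulAut (Multiplicative Mod144) where
  toFun i := tAut ^ i.toAdd.val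
  map_one' := by
    show tAut ^ (0 : ZMod 42).val = 1
    rw [ZMod.val_zero, pow_zero]
  map_mul' a b := by
    show tAut ^ (a.toAdd + b.toAdd).val = tAut ^ a.toAdd.val * tAut ^ b.toAdd.val
    rw [← pow_add, ZMod.val_add]
    exact (pow_eq_pow_mod (a.toAdd.val + b.toAdd.val) tAut_pow_42).symm

/-- The witness. -/
abbrev W6048 := Multiplicative Mod144 ⋊[act42] Multiplicative (ZMod 42)

theorem card_W6048 : Nat.card W6048 = 6048 := by
  rw [SemidirectProduct.card]
  simp [Nat.card_eq_fintype_card]

theorem isSolvable_W6048 : Group.IsSolvable W6048 :=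
  solvable_of_ker_le_range (SemidirectProduct.inl (φ := act42))
    (SemidirectProduct.rightHom (φ := act42))
    (le_of_eq SemidirectProduct.range_inl_eq_ker_rightHom.symm)

/-- An additive character with values in the sixth roots of unity. -/
def phi6 (m : Mod144) : ZMod 6 :=
  (3 * m.1.1.val + 2 * m.2.1.val : ℕ)

theorem phi6_add : ∀ a b : Mod144, phi6 (a + b) = phi6 a + phi6 b := by
  have h2 : ∀ x y : ZMod 2, ((3 * (x + y).val : ℕ) : ZMod 6) = (3 * x.val : ℕ) + (3 * y.val : ℕ) := by
    decide
  have h3 : ∀ x y : ZMod 3, ((2 * (x + y).val : ℕ) : ZMod 6) = (2 * x.val : ℕ) + (2 * y.val : ℕ) := by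
    decide
  intro a b
  simp only [phi6, Nat.cast_add, Prod.fst_add, Prod.snd_add]
  rw [h2, h3]
  ring

theorem phi6_free : ∀ i : Fin 42, i ≠ 0 → ∃ m : Mod144, phi6 ((t42^[(i : ℕ)]) m) ≠ phi6 m := by
  decide +kernel

theorem exists_deg_42 : 42 ∈ Cfsg.charDegrees W6048 := by
  classical
  haveI : Finite W6048 := Nat.finite_of_card_ne_zero (by rw [card_W6048]; norm_num)
  letI : Fintype W6048 := Fintype.ofFinite _
  obtain ⟨ζ, hζ⟩ : ∃ ζ : ℂ, IsPrimitiveRoot ζ 6 := ⟨_, Complex.isPrimitiveRoot_exp 6 (by norm_num)⟩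
  set K : Subgroup W6048 := (SemidirectProduct.rightHom (φ := act42)).ker with hK
  have hleft : ∀ a b : K, ((a * b : K) : W6048).left.toAdd =
      (a : W6048).left.toAdd + (b : W6048).left.toAdd := by
    intro a b
    have ha : (a : W6048).right = 1 := a.2
    rw [Subgroup.coe_mul, SemidirectProduct.mul_left, ha, map_one, MulAut.one_apply, toAdd_mul]
  let lam : K →* ℂˣ :=
    { toFun := fun k => (hζ.isUnit (by norm_num)).unit ^ (phi6 (k : W6048).left.toAdd).val
      map_one' := by
        show _ ^ (phi6 (0 : Mod144)).val = 1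
        rw [show phi6 (0 : Mod144) = 0 by decide, ZMod.val_zero, pow_zero]
      map_mul' := fun a b => by
        rw [hleft, phi6_add, ← pow_add, ZMod.val_add]
        refine (pow_eq_pow_mod _ ?_).symm
        exact Units.ext (by rw [Units.val_pow_eq_pow_val, IsUnit.unit_spec, hζ.pow_eq_one,
          Units.val_one]) }
  have hθ := isIrrCharacter_linear lam
  have hinj : ∀ a b : ZMod 6, ζ ^ a.val = ζ ^ b.val → a = b := fun a b h =>
    ZMod.val_injective 6 (hζ.pow_inj (ZMod.val_lt a) (ZMod.val_lt b) h)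
  have hset : ∀ g : W6048, conjChar K g (fun k => ((lam k : ℂˣ) : ℂ)) =
      (fun k => ((lam k : ℂˣ) : ℂ)) → g ∈ K := by
    intro g hg
    by_contra hgK
    have hi : g.right.toAdd.val ≠ 0 := fun h0 => hgK (by
      show g.right = 1
      exact Multiplicative.toAdd.injective ((ZMod.val_eq_zero _).1 h0))
    obtain ⟨m, hm⟩ := phi6_free ⟨g.right.toAdd.val, ZMod.val_lt _⟩ (fun h => hi (congrArg Fin.val h))
    refine hm ?_
    have h1 := congrFun hg ⟨SemidirectProduct.inl (Multiplicative.ofAdd m), rfl⟩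
    simp only [conjChar, lam, MonoidHom.coe_mk, OneHom.coe_mk, Units.val_pow_eq_pow_val,
      IsUnit.unit_spec, SemidirectProduct.left_inl, toAdd_ofAdd] at h1
    have e : (g * SemidirectProduct.inl (Multiplicative.ofAdd m) * g⁻¹ : W6048).left.toAdd =
        (t42^[g.right.toAdd.val]) m := by
      have e2 : (g * SemidirectProduct.inl (Multiplicative.ofAdd m) * g⁻¹ : W6048).left =
          (act42 g.right) (Multiplicative.ofAdd m) := by
        simp [SemidirectProduct.mul_left, SemidirectProduct.mul_right, SemidirectProduct.inv_left]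
      rw [e2]
      exact tAut_pow _ _
    rw [e] at h1
    exact hinj _ _ h1
  have hKc : Nat.card K = 144 := by
    rw [hK, ← SemidirectProduct.range_inl_eq_ker_rightHom,
      ← Nat.card_congr (MonoidHom.ofInjective SemidirectProduct.inl_injective).toEquiv]
    simp [Nat.card_eq_fintype_card]
  have hn := classInner_indFun_normal K hθ hθ
  have hcard : Nat.card {g : W6048 // conjChar K g (fun k => ((lam k : ℂˣ) : ℂ)) =
      (fun k => ((lam k : ℂˣ) : ℂ))} = Nat.card K :=
    Nat.card_congr (Equiv.subtypeEquivRight fun g => ⟨hset g, fun hg =>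
      conjChar_of_mem K (IsCharacter.isClassFunction (IsIrrCharacter.isCharacter hθ)) hg⟩)
  rw [hcard, inv_mul_cancel₀ (Nat.cast_ne_zero.2 Nat.card_pos.ne')] at hn
  refine ⟨⟨_, IsCharacter.isIrr_of_norm_one
    (isCharacter_indFun K (IsIrrCharacter.isCharacter hθ)) hn⟩, ?_⟩
  have h1 : Cfsg.indFun K (fun k => ((lam k : ℂˣ) : ℂ)) 1 = 42 := by
    have hidx := K.index_mul_card
    rw [hKc, card_W6048] at hidx
    rw [indFun_one_apply, map_one, Units.val_one, mul_one, show K.index = 42 by omega]
    norm_num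
  simp [Cfsg.charDegree, h1]

end Cfsg.Agent.DegGraph
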